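import Mathlib

/-!
Siegel absorption in `Sp(2m)`: a symplectic matrix whose upper left block is `X₁ X₂` is a product of
conjugates of `diag(X₁, X₁⁻ᵀ)` and `diag(X₂, X₂⁻ᵀ)` when `R ↦ R - Xᵢ R Xᵢᵀ` is injective.
-/

set_option autoImplicit false
set_option linter.style.haveILetI false

open Matrix

namespace H31.SPC

variable {F : Type*} [Field F] {l : Type*} [Fintype l] [DecidableEq l]

/-- `R ↦ R - X R Xᵀ` is injective, and so is the same map for `Xᵀ`. -/
structure Free (X : Matrix l l F) : Prop where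
  inj : ∀ R : Matrix l l F, X * R * Xᵀ = R → R = 0
  inj' : ∀ R : Matrix l l F, Xᵀ * R * X = R → R = 0

theorem Free.conj {X : Matrix l l F} (h : Free X) (P : GL l F) :
    Free (P.val * X * (P⁻¹ : GL l F).val) := by
  set Q := (P⁻¹ : GL l F).val
  have hPQ : P.val * Q = 1 := P.mul_inv
  have hQP : Q * P.val = 1 := P.inv_mul
  have hPQ' : Qᵀ * P.valᵀ = 1 := by rw [← transpose_mul, hPQ, transpose_one]
  have hQP' : P.valᵀ * Qᵀ = 1 := by rw [← transpose_mul, hQP, transpose_one]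
  constructor
  · intro R hR
    have h0 := h.inj (Q * R * Qᵀ) (by
      calc X * (Q * R * Qᵀ) * Xᵀ
          = (Q * P.val) * X * (Q * R * Qᵀ) * Xᵀ * (P.valᵀ * Qᵀ) := by
            rw [hQP, hQP', Matrix.one_mul, Matrix.mul_one]
        _ = Q * ((P.val * X * Q) * R * (P.val * X * Q)ᵀ) * Qᵀ := by
            simp only [transpose_mul, Matrix.mul_assoc]
        _ = _ := by rw [hR])
    calc R = (P.val * Q) * R * (Qᵀ * P.valᵀ) := by rw [hPQ, hPQ', Matrix.one_mul, Matrix.mul_one]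
      _ = P.val * (Q * R * Qᵀ) * P.valᵀ := by simp only [Matrix.mul_assoc]
      _ = 0 := by rw [h0, Matrix.mul_zero, Matrix.zero_mul]
  · intro R hR
    have h0 := h.inj' (P.valᵀ * R * P.val) (by
      calc Xᵀ * (P.valᵀ * R * P.val) * X
          = (P.valᵀ * Qᵀ) * Xᵀ * (P.valᵀ * R * P.val) * X * (Q * P.val) := by
            rw [hQP, hQP', Matrix.one_mul, Matrix.mul_one]
        _ = P.valᵀ * ((P.val * X * Q)ᵀ * R * (P.val * X * Q)) * P.val := by
            simp only [transpose_mul, Matrix.mul_assoc]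
        _ = _ := by rw [hR])
    calc R = (Qᵀ * P.valᵀ) * R * (P.val * Q) := by rw [hPQ, hPQ', Matrix.one_mul, Matrix.mul_one]
      _ = Qᵀ * (P.valᵀ * R * P.val) * Q := by simp only [Matrix.mul_assoc]
      _ = 0 := by rw [h0, Matrix.mul_zero, Matrix.zero_mul]

theorem Free.inv {U : GL l F} (h : Free U.val) : Free (U⁻¹ : GL l F).val := by
  set V := (U⁻¹ : GL l F).val
  have hUV : U.val * V = 1 := U.mul_inv
  have hUV' : Vᵀ * U.valᵀ = 1 := by rw [← transpose_mul, hUV, transpose_one]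
  have hVU : V * U.val = 1 := U.inv_mul
  have hVU' : U.valᵀ * Vᵀ = 1 := by rw [← transpose_mul, hVU, transpose_one]
  constructor
  · intro R hR
    refine h.inj R ?_
    conv_lhs => rw [← hR]
    calc U.val * (V * R * Vᵀ) * U.valᵀ = (U.val * V) * R * (Vᵀ * U.valᵀ) := by
          simp only [Matrix.mul_assoc]
      _ = R := by rw [hUV, hUV', Matrix.one_mul, Matrix.mul_one]
  · intro R hR
    refine h.inj' R ?_
    conv_lhs => rw [← hR]
    calc U.valᵀ * (Vᵀ * R * V) * U.val = (U.valᵀ * Vᵀ) * R * (V * U.val) := by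
          simp only [Matrix.mul_assoc]
      _ = R := by rw [hVU, hVU', Matrix.one_mul, Matrix.mul_one]

theorem exists_sym [Finite F] {X : Matrix l l F} (hinj : ∀ R : Matrix l l F, X * R * Xᵀ = R → R = 0)
    {K : Matrix l l F} (hK : Kᵀ = K) :
    ∃ R : Matrix l l F, Rᵀ = R ∧ R - X * R * Xᵀ = K := by
  let φ : Matrix l l F → Matrix l l F := fun R => R - X * R * Xᵀ
  have hφ : Function.Injective φ := by
    intro R S hRS
    refine sub_eq_zero.1 (hinj _ ?_)
    simp only [φ] at hRS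
    simp only [Matrix.mul_sub, Matrix.sub_mul]
    rw [sub_eq_sub_iff_sub_eq_sub] at hRS
    exact hRS.symm
  obtain ⟨R, hR⟩ := Finite.surjective_of_injective hφ K
  refine ⟨R, hφ ?_, hR⟩
  simp only [φ] at hR ⊢
  rw [hR]
  calc Rᵀ - X * Rᵀ * Xᵀ = (R - X * R * Xᵀ)ᵀ := by simp [transpose_mul, Matrix.mul_assoc]
    _ = K := by rw [hR, hK]

/-- The Levi embedding. -/
def levi : GL l F →* symplecticGroup l F where
  toFun P := ⟨fromBlocks P.val 0 0 (P⁻¹ : GL l F).valᵀ, by
    rw [SymplecticGroup.fromBlocks_mem_iff]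
    refine ⟨by simp, by simp, ?_⟩
    rw [← transpose_mul, ← Units.val_mul]
    simp⟩
  map_one' := Subtype.ext (by simp)
  map_mul' P Q := Subtype.ext (by simp [fromBlocks_multiply, transpose_mul])

theorem levi_val (P : GL l F) :
    (levi P).val = fromBlocks P.val 0 0 (P⁻¹ : GL l F).valᵀ := rfl

theorem blocks_upper [Finite F] {U : GL l F} (hf : Free U.val) {K D : Matrix l l F}
    (hM : fromBlocks U.val K 0 D ∈ symplecticGroup l F) :
    IsConj (levi U) ⟨_, hM⟩ := by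
  obtain ⟨-, h2, h3⟩ := SymplecticGroup.fromBlocks_mem_iff.1 hM
  simp only [transpose_zero, Matrix.zero_mul, sub_zero] at h3
  set X := U.val with hX
  have hDX : D * Xᵀ = 1 := mul_eq_one_comm.1 h3
  have hD : D = (U⁻¹ : GL l F).valᵀ := by
    refine left_inv_eq_right_inv hDX ?_
    rw [hX, ← transpose_mul, Units.inv_mul, transpose_one]
  have hS : (K * Xᵀ)ᵀ = K * Xᵀ := by
    rw [transpose_mul, transpose_transpose]
    calc X * Kᵀ = X * (Kᵀ * D) * Xᵀ := by
          rw [Matrix.mul_assoc, Matrix.mul_assoc, hDX, Matrix.mul_one]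
      _ = X * (Dᵀ * K) * Xᵀ := by rw [h2]
      _ = (X * Dᵀ) * K * Xᵀ := by simp only [Matrix.mul_assoc]
      _ = K * Xᵀ := by
        rw [show X * Dᵀ = (D * Xᵀ)ᵀ by rw [transpose_mul, transpose_transpose], hDX,
          transpose_one, Matrix.one_mul]
  obtain ⟨R, hRs, hR⟩ := exists_sym hf.inj hS
  have hu : fromBlocks 1 R 0 1 ∈ symplecticGroup l F := by
    rw [SymplecticGroup.fromBlocks_mem_iff]
    simp [hRs]
  refine isConj_iff.2 ⟨⟨_, hu⟩, ?_⟩
  rw [mul_inv_eq_iff_eq_mul]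
  apply Subtype.ext
  simp only [Submonoid.coe_mul, levi_val, ← hD, fromBlocks_multiply]
  simp only [Matrix.mul_zero, Matrix.zero_mul, Matrix.mul_one, Matrix.one_mul, add_zero, zero_add]
  congr 1
  calc R * D = (R - X * R * Xᵀ) * D + X * R * (Xᵀ * D) := by
        rw [Matrix.sub_mul, ← Matrix.mul_assoc (X * R)]; abel
    _ = X * R + K := by
        rw [hR, h3, Matrix.mul_assoc, h3, Matrix.mul_one, Matrix.mul_one, add_comm]

theorem blocks_lower [Finite F] {U : GL l F} (hf : Free U.val) {K D : Matrix l l F}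
    (hM : fromBlocks U.val 0 K D ∈ symplecticGroup l F) :
    IsConj (levi U) ⟨_, hM⟩ := by
  obtain ⟨h1, -, h3⟩ := SymplecticGroup.fromBlocks_mem_iff.1 hM
  simp only [Matrix.mul_zero, sub_zero] at h3
  set X := U.val with hX
  have hDX : D * Xᵀ = 1 := mul_eq_one_comm.1 h3
  have hD : D = (U⁻¹ : GL l F).valᵀ := by
    refine left_inv_eq_right_inv hDX ?_
    rw [hX, ← transpose_mul, Units.inv_mul, transpose_one]
  have hS : (-(Xᵀ * K))ᵀ = -(Xᵀ * K) := by
    rw [transpose_neg, transpose_mul, transpose_transpose, h1]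
  obtain ⟨R, hRs, hR⟩ := exists_sym (X := Xᵀ)
    (fun R hR => hf.inj' R (by rwa [transpose_transpose] at hR)) hS
  rw [transpose_transpose] at hR
  have hu : fromBlocks 1 0 R 1 ∈ symplecticGroup l F := by
    rw [SymplecticGroup.fromBlocks_mem_iff]
    simp [hRs]
  refine isConj_iff.2 ⟨⟨_, hu⟩, ?_⟩
  rw [mul_inv_eq_iff_eq_mul]
  apply Subtype.ext
  simp only [Submonoid.coe_mul, levi_val, ← hD, fromBlocks_multiply]
  simp only [Matrix.mul_zero, Matrix.zero_mul, Matrix.mul_one, Matrix.one_mul, add_zero, zero_add]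
  congr 1
  calc R * X = D * (Xᵀ * R * X) := by
        rw [← Matrix.mul_assoc, ← Matrix.mul_assoc, hDX, Matrix.one_mul]
    _ = D * (R - (R - Xᵀ * R * X)) := by rw [sub_sub_cancel]
    _ = D * R + D * (Xᵀ * K) := by rw [hR, sub_neg_eq_add, Matrix.mul_add]
    _ = K + D * R := by rw [← Matrix.mul_assoc, hDX, Matrix.one_mul, add_comm]

theorem product_of_block [Finite F] {M : symplecticGroup l F} {U₁ U₂ : GL l F}
    (h₁ : Free U₁.val) (h₂ : Free U₂.val) (hB : M.val.toBlocks₁₁ = U₁.val * U₂.val) :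
    ∃ u v, IsConj (levi U₁) u ∧ IsConj (levi U₂) v ∧ M = u * v := by
  have hm := fromBlocks_toBlocks M.val
  rw [hB] at hm
  set C := M.val.toBlocks₁₂
  set D := M.val.toBlocks₂₁
  set E := M.val.toBlocks₂₂
  set X₁ := U₁.val with hX1
  set X₂ := U₂.val with hX2
  obtain ⟨hs, -, -⟩ := SymplecticGroup.fromBlocks_mem_iff.1 (hm ▸ M.2 :
    fromBlocks (X₁ * X₂) C D E ∈ symplecticGroup l F)
  set W := (U₂⁻¹ : GL l F).val with hW
  have hXW : X₂ * W = 1 := U₂.mul_inv
  have hWX : W * X₂ = 1 := U₂.inv_mul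
  have hl : fromBlocks X₁ 0 (D * W) (U₁⁻¹ : GL l F).valᵀ ∈ symplecticGroup l F := by
    rw [SymplecticGroup.fromBlocks_mem_iff]
    refine ⟨?_, by simp, ?_⟩
    · calc X₁ᵀ * (D * W) = (Wᵀ * X₂ᵀ) * X₁ᵀ * (D * W) := by
            rw [← transpose_mul X₂ W, hXW, transpose_one, Matrix.one_mul]
        _ = Wᵀ * ((X₁ * X₂)ᵀ * D) * W := by simp only [transpose_mul, Matrix.mul_assoc]
        _ = Wᵀ * (Dᵀ * (X₁ * X₂)) * W := by rw [hs]
        _ = (D * W)ᵀ * X₁ * (X₂ * W) := by simp only [transpose_mul, Matrix.mul_assoc]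
        _ = _ := by rw [hXW, Matrix.mul_one]
    · rw [← transpose_mul, hX1, Units.inv_mul]
      simp
  set u : symplecticGroup l F := ⟨_, hl⟩ with hu
  refine ⟨u, u⁻¹ * M, blocks_lower h₁ hl, ?_, by group⟩
  set v := u⁻¹ * M with hv
  have huv : u.val * v.val = M.val := by
    rw [← Submonoid.coe_mul, hv, mul_inv_cancel_left]
  have hvb := fromBlocks_toBlocks v.val
  rw [← hvb, ← hm, hu, fromBlocks_multiply, fromBlocks_inj] at huv
  simp only [Matrix.zero_mul, add_zero] at huv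
  obtain ⟨e1, -, e3, -⟩ := huv
  have hv1 : v.val.toBlocks₁₁ = X₂ := by
    have := congrArg ((U₁⁻¹ : GL l F).val * ·) e1
    rwa [← Matrix.mul_assoc, ← Matrix.mul_assoc, hX1, Units.inv_mul, Matrix.one_mul,
      Matrix.one_mul] at this
  have hv3 : v.val.toBlocks₂₁ = 0 := by
    rw [hv1, Matrix.mul_assoc, hWX, Matrix.mul_one, add_eq_left] at e3
    have := congrArg (X₁ᵀ * ·) e3
    rwa [← Matrix.mul_assoc, ← transpose_mul, hX1, Units.inv_mul, transpose_one,
      Matrix.one_mul, Matrix.mul_zero] at this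
  rw [hv1, hv3] at hvb
  have := blocks_upper h₂ (hvb ▸ v.2 :
    fromBlocks X₂ v.val.toBlocks₁₂ 0 v.val.toBlocks₂₂ ∈ symplecticGroup l F)
  convert this using 1
  exact Subtype.ext hvb.symm

theorem comm_of_block [Finite F] {M : symplecticGroup l F} {A P : GL l F} (hA : Free A.val)
    (hB : M.val.toBlocks₁₁ = (A * (P * A⁻¹ * P⁻¹)).val) :
    ∃ a b, M = a * b * a⁻¹ * b⁻¹ := by
  obtain ⟨u, v, hu, hv, rfl⟩ := product_of_block hA
    (show Free (P * A⁻¹ * P⁻¹).val by
      rw [Units.val_mul, Units.val_mul]; exact hA.inv.conj P)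
    (by rw [hB, Units.val_mul])
  obtain ⟨c, rfl⟩ := isConj_iff.1 hu
  obtain ⟨d, rfl⟩ := isConj_iff.1 hv
  rw [map_mul, map_mul, map_inv, map_inv]
  refine ⟨c * levi A * c⁻¹, d * levi P * c⁻¹, ?_⟩
  group

end H31.SPC
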