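import Mathlib

/-!
Alternating forms: nondegenerate subspaces, the predicate `IsLU` (Siegel "lower times upper" shape
with scalar `a`), and Lagrangian complements.
-/

set_option autoImplicit false
set_option linter.style.haveILetI false
set_option linter.unusedSectionVars false

namespace H31.SPC

universe u v

variable {F : Type u} [Field F] {V : Type v} [AddCommGroup V] [Module F V] [FiniteDimensional F V]

/-- A nondegenerate alternating form. -/
structure Frm (F : Type u) [Field F] (V : Type v) [AddCommGroup V] [Module F V] where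
  om : V →ₗ[F] V →ₗ[F] F
  self : ∀ x, om x x = 0
  sep : ∀ x, (∀ y, om x y = 0) → x = 0

variable (S : Frm F V)

theorem Frm.swap (x y : V) : S.om y x = -S.om x y := by
  have h := S.self (x + y)
  simp only [map_add, LinearMap.add_apply, S.self, zero_add, add_zero] at h
  rw [add_comm] at h
  exact eq_neg_of_add_eq_zero_right h

/-- Isotropy. -/
def Frm.Iso (L : Submodule F V) : Prop := ∀ x ∈ L, ∀ y ∈ L, S.om x y = 0

/-- Orthogonality. -/
def Frm.Orth (A B : Submodule F V) : Prop := ∀ x ∈ A, ∀ y ∈ B, S.om x y = 0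

theorem Frm.Orth.symm {S : Frm F V} {A B : Submodule F V} (h : S.Orth A B) : S.Orth B A :=
  fun x hx y hy => by rw [S.swap y x, h y hy x hx, neg_zero]

/-- Nondegeneracy of the restriction. -/
def Frm.ND (W : Submodule F V) : Prop := ∀ x ∈ W, (∀ y ∈ W, S.om x y = 0) → x = 0

theorem Frm.nd_top : S.ND ⊤ := fun x _ h => S.sep x fun y => h y trivial

theorem Frm.nd_bot : S.ND (⊥ : Submodule F V) := fun _ hx _ => (Submodule.mem_bot F).1 hx

/-- The orthogonal space. -/
def Frm.perp (A : Submodule F V) : Submodule F V where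
  carrier := {x | ∀ a ∈ A, S.om x a = 0}
  add_mem' := fun {x y} hx hy a ha => by
    rw [map_add, LinearMap.add_apply, hx a ha, hy a ha, add_zero]
  zero_mem' := fun a _ => by rw [map_zero, LinearMap.zero_apply]
  smul_mem' := fun c x hx a ha => by
    rw [map_smul, LinearMap.smul_apply, hx a ha, smul_zero]

theorem Frm.mem_perp {A : Submodule F V} {x : V} : x ∈ S.perp A ↔ ∀ a ∈ A, S.om x a = 0 := Iff.rfl

theorem Frm.realise {W : Submodule F V} (hW : S.ND W) (φ : V →ₗ[F] F) :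
    ∃ w ∈ W, ∀ x ∈ W, S.om w x = φ x := by
  let T : W →ₗ[F] Module.Dual F W := (S.om.comp W.subtype).compl₂ W.subtype
  have hinj : Function.Injective T := by
    refine (injective_iff_map_eq_zero T).2 fun x hx => Subtype.ext (hW x.1 x.2 fun y hy => ?_)
    exact LinearMap.congr_fun hx ⟨y, hy⟩
  obtain ⟨w, hw⟩ := (LinearMap.injective_iff_surjective_of_finrank_eq_finrank
    (Subspace.dual_finrank_eq).symm).1 hinj (φ.comp W.subtype)
  exact ⟨w.1, w.2, fun x hx => LinearMap.congr_fun hw ⟨x, hx⟩⟩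

theorem Frm.finrank_perp {W A : Submodule F V} (hW : S.ND W) (hA : A ≤ W) :
    Module.finrank F (W ⊓ S.perp A : Submodule F V) + Module.finrank F A =
      Module.finrank F W := by
  let T : W →ₗ[F] Module.Dual F A := (S.om.comp W.subtype).compl₂ A.subtype
  have hsurj : Function.Surjective T := by
    intro ψ
    obtain ⟨φ, hφ⟩ := LinearMap.exists_extend ψ
    obtain ⟨w, hw, h⟩ := S.realise hW φ
    exact ⟨⟨w, hw⟩, LinearMap.ext fun a =>
      (h a.1 (hA a.2)).trans (LinearMap.congr_fun hφ a)⟩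
  have h1 := LinearMap.finrank_range_add_finrank_ker T
  rw [LinearMap.range_eq_top.2 hsurj, finrank_top, Subspace.dual_finrank_eq] at h1
  have h2 : Submodule.map W.subtype (LinearMap.ker T) = W ⊓ S.perp A := by
    ext x
    simp only [Submodule.mem_map, LinearMap.mem_ker, Submodule.mem_inf, Frm.mem_perp]
    constructor
    · rintro ⟨w, hw, rfl⟩
      exact ⟨w.2, fun a ha => LinearMap.congr_fun hw ⟨a, ha⟩⟩
    · rintro ⟨hx, h⟩
      exact ⟨⟨x, hx⟩, LinearMap.ext fun a => h a.1 a.2, rfl⟩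
  have h3 : Module.finrank F (Submodule.map W.subtype (LinearMap.ker T)) =
      Module.finrank F (LinearMap.ker T) := Submodule.finrank_map_subtype_eq _ _
  rw [h2] at h3
  omega

theorem Frm.iso_le_half {W L : Submodule F V} (hW : S.ND W) (hL : L ≤ W) (hi : S.Iso L) :
    2 * Module.finrank F L ≤ Module.finrank F W := by
  have h1 := S.finrank_perp hW hL
  have h2 : L ≤ W ⊓ S.perp L := le_inf hL fun x hx a ha => hi x hx a ha
  have h3 := Submodule.finrank_mono h2
  omega

/-- Extend an isotropic space to a Lagrangian complement. -/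
theorem Frm.exists_complement {W L : Submodule F V} (hW : S.ND W) (hL : L ≤ W) (hLi : S.Iso L)
    (hdim : 2 * Module.finrank F L = Module.finrank F W) :
    ∀ (n : ℕ) (J : Submodule F V), Module.finrank F L - Module.finrank F J = n → J ≤ W → S.Iso J →
      Disjoint L J → ∃ L', J ≤ L' ∧ L' ≤ W ∧ S.Iso L' ∧ Disjoint L L' ∧ W ≤ L ⊔ L' := by
  intro n
  induction n using Nat.strong_induction_on with
  | _ n ih =>
    intro J hn hJW hJi hd
    have hhalf := S.iso_le_half hW hJW hJi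
    have hsum : Module.finrank F (L ⊔ J : Submodule F V) =
        Module.finrank F L + Module.finrank F J := by
      have := Submodule.finrank_sup_add_finrank_inf_eq L J
      rwa [hd.eq_bot, finrank_bot, add_zero] at this
    by_cases hfull : Module.finrank F J = Module.finrank F L
    · refine ⟨J, le_rfl, hJW, hJi, hd, (Submodule.eq_of_le_of_finrank_le (sup_le hL hJW) ?_).ge⟩
      omega
    have hlt : Module.finrank F J < Module.finrank F L := by omega
    set K := W ⊓ S.perp J with hK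
    set M := L ⊓ S.perp J with hM
    have hKdim := S.finrank_perp hW hJW
    have hLJ := S.finrank_perp hW (sup_le hL hJW)
    have hMle : M ≤ W ⊓ S.perp (L ⊔ J) := by
      refine le_inf (inf_le_left.trans hL) fun x hx a ha => ?_
      obtain ⟨l, hl, j, hj, rfl⟩ := Submodule.mem_sup.1 ha
      rw [map_add, hLi x hx.1 l hl, hx.2 j hj, add_zero]
    have hMd := Submodule.finrank_mono hMle
    have hJM := Submodule.finrank_add_le_finrank_add_finrank J M
    obtain ⟨v, hv, hv'⟩ : ∃ v ∈ K, v ∉ J ⊔ M := by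
      by_contra hno
      push Not at hno
      have := Submodule.finrank_mono (show K ≤ J ⊔ M from hno)
      rw [hK] at this
      omega
    set J' := J ⊔ Submodule.span F {v} with hJ'
    have hJ'i : S.Iso J' := by
      intro x hx y hy
      obtain ⟨x₁, hx₁, x₂, hx₂, rfl⟩ := Submodule.mem_sup.1 hx
      obtain ⟨y₁, hy₁, y₂, hy₂, rfl⟩ := Submodule.mem_sup.1 hy
      obtain ⟨c, rfl⟩ := Submodule.mem_span_singleton.1 hx₂
      obtain ⟨c', rfl⟩ := Submodule.mem_span_singleton.1 hy₂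
      simp only [map_add, map_smul, LinearMap.add_apply, LinearMap.smul_apply, smul_eq_mul]
      rw [hJi x₁ hx₁ y₁ hy₁, hv.2 y₁ hy₁, S.self, S.swap v x₁, hv.2 x₁ hx₁]
      ring
    have hJ'W : J' ≤ W := sup_le hJW ((Submodule.span_singleton_le_iff_mem _ _).2 hv.1)
    have hd' : Disjoint L J' := by
      rw [Submodule.disjoint_def]
      intro x hxL hx
      obtain ⟨x₁, hx₁, x₂, hx₂, rfl⟩ := Submodule.mem_sup.1 hx
      obtain ⟨c, rfl⟩ := Submodule.mem_span_singleton.1 hx₂
      by_cases hc : c = 0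
      · rw [hc, zero_smul, add_zero] at hxL ⊢
        exact Submodule.disjoint_def.1 hd x₁ hxL hx₁
      · refine absurd ?_ hv'
        have hxM : x₁ + c • v ∈ M := ⟨hxL, add_mem (fun a ha => hJi x₁ hx₁ a ha)
          (Submodule.smul_mem _ c hv.2)⟩
        have : c • v ∈ J ⊔ M := by
          rw [show c • v = -x₁ + (x₁ + c • v) by abel]
          exact Submodule.add_mem_sup (neg_mem hx₁) hxM
        exact (Submodule.smul_mem_iff _ hc).1 this
    have hgt : Module.finrank F J < Module.finrank F J' :=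
      Submodule.finrank_lt_finrank_of_lt (lt_of_le_of_ne le_sup_left fun h => hv' (le_sup_left (a := J)
        (h ▸ Submodule.mem_sup_right (Submodule.mem_span_singleton_self v))))
    obtain ⟨L', h1, h2⟩ := ih _ (by omega) J' rfl hJ'W hJ'i hd'
    exact ⟨L', le_sup_left.trans h1, h2⟩

variable {S} (g : V ≃ₗ[F] V)

/-- Invariance under `g`. -/
def Inv' (g : V ≃ₗ[F] V) (W : Submodule F V) : Prop := ∀ x ∈ W, g x ∈ W

/-- `g` preserves the form. -/
def Frm.Pres (S : Frm F V) (g : V ≃ₗ[F] V) : Prop := ∀ x y, S.om (g x) (g y) = S.om x y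

theorem Inv'.symm_mem {g : V ≃ₗ[F] V} {W : Submodule F V} (h : Inv' g W) {x : V} (hx : x ∈ W) :
    g.symm x ∈ W := by
  have hmap : W.map g.toLinearMap = W :=
    Submodule.eq_of_le_of_finrank_le (Submodule.map_le_iff_le_comap.2 h)
      (LinearEquiv.finrank_map_eq g W).ge
  rw [← hmap] at hx
  obtain ⟨y, hy, rfl⟩ := hx
  simpa using hy

theorem Frm.Pres.symm {g : V ≃ₗ[F] V} (h : S.Pres g) : S.Pres g.symm := fun x y => by
  rw [← h, LinearEquiv.apply_symm_apply, LinearEquiv.apply_symm_apply]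

theorem Frm.Pres.left {g : V ≃ₗ[F] V} (h : S.Pres g) (x y : V) :
    S.om (g x) y = S.om x (g.symm y) := by
  conv_lhs => rw [← g.apply_symm_apply y]
  exact h x _

variable (S) in
/-- The shape "lower Siegel unipotent times upper one", scaled by `a`. -/
def IsLU (g : V ≃ₗ[F] V) (a : F) (W : Submodule F V) : Prop :=
  ∃ L L' : Submodule F V, L ≤ W ∧ L' ≤ W ∧ W ≤ L ⊔ L' ∧ Disjoint L L' ∧ S.Iso L ∧ S.Iso L' ∧
    ∀ x ∈ L, g x - a • x ∈ L'

theorem isLU_bot (a : F) : IsLU S g a ⊥ :=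
  ⟨⊥, ⊥, le_rfl, le_rfl, bot_le, disjoint_bot_left,
    fun x hx y _ => by rw [(Submodule.mem_bot F).1 hx, map_zero, LinearMap.zero_apply],
    fun x hx y _ => by rw [(Submodule.mem_bot F).1 hx, map_zero, LinearMap.zero_apply],
    fun x hx => by rw [(Submodule.mem_bot F).1 hx, map_zero, smul_zero, sub_zero]; exact zero_mem _⟩

theorem disjoint_of_orth {A B : Submodule F V} (hA : S.ND A) (h : S.Orth A B) : Disjoint A B :=
  Submodule.disjoint_def.2 fun x hxA hxB => hA x hxA fun y hy => h.symm x hxB y hy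

theorem IsLU.sup {g : V ≃ₗ[F] V} {a : F} {A B : Submodule F V} (hA : IsLU S g a A)
    (hB : IsLU S g a B) (hnd : S.ND A) (ho : S.Orth A B) : IsLU S g a (A ⊔ B) := by
  obtain ⟨L₁, M₁, l₁, m₁, s₁, d₁, i₁, j₁, g₁⟩ := hA
  obtain ⟨L₂, M₂, l₂, m₂, s₂, d₂, i₂, j₂, g₂⟩ := hB
  have hd := disjoint_of_orth hnd ho
  refine ⟨L₁ ⊔ L₂, M₁ ⊔ M₂, sup_le_sup l₁ l₂, sup_le_sup m₁ m₂, sup_le (s₁.trans ?_) (s₂.trans ?_),
    ?_, ?_, ?_, ?_⟩
  · exact sup_le_sup le_sup_left le_sup_left
  · exact sup_le_sup le_sup_right le_sup_right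
  · rw [Submodule.disjoint_def]
    intro x hx hy
    obtain ⟨a₁, ha₁, a₂, ha₂, rfl⟩ := Submodule.mem_sup.1 hx
    obtain ⟨b₁, hb₁, b₂, hb₂, heq⟩ := Submodule.mem_sup.1 hy
    have h1 : a₁ - b₁ ∈ B := by
      rw [show a₁ - b₁ = b₂ - a₂ by
        rw [sub_eq_sub_iff_add_eq_add, heq.symm]; abel]
      exact sub_mem (m₂ hb₂) (l₂ ha₂)
    have h2 := Submodule.disjoint_def.1 hd _ (sub_mem (l₁ ha₁) (m₁ hb₁)) h1
    rw [sub_eq_zero] at h2
    have h3 := Submodule.disjoint_def.1 d₁ _ ha₁ (h2 ▸ hb₁)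
    have h4 : a₂ = b₂ := by
      rw [h3, zero_add, ← h2, h3, zero_add] at heq
      exact heq.symm
    rw [h3, zero_add]
    exact Submodule.disjoint_def.1 d₂ _ ha₂ (h4 ▸ hb₂)
  · intro x hx y hy
    obtain ⟨a₁, ha₁, a₂, ha₂, rfl⟩ := Submodule.mem_sup.1 hx
    obtain ⟨b₁, hb₁, b₂, hb₂, rfl⟩ := Submodule.mem_sup.1 hy
    simp only [map_add, LinearMap.add_apply]
    rw [i₁ a₁ ha₁ b₁ hb₁, i₂ a₂ ha₂ b₂ hb₂, ho a₁ (l₁ ha₁) b₂ (l₂ hb₂),
      ho.symm a₂ (l₂ ha₂) b₁ (l₁ hb₁)]
    simp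
  · intro x hx y hy
    obtain ⟨a₁, ha₁, a₂, ha₂, rfl⟩ := Submodule.mem_sup.1 hx
    obtain ⟨b₁, hb₁, b₂, hb₂, rfl⟩ := Submodule.mem_sup.1 hy
    simp only [map_add, LinearMap.add_apply]
    rw [j₁ a₁ ha₁ b₁ hb₁, j₂ a₂ ha₂ b₂ hb₂, ho a₁ (m₁ ha₁) b₂ (m₂ hb₂),
      ho.symm a₂ (m₂ ha₂) b₁ (m₁ hb₁)]
    simp
  · intro x hx
    obtain ⟨a₁, ha₁, a₂, ha₂, rfl⟩ := Submodule.mem_sup.1 hx
    rw [map_add, smul_add, add_sub_add_comm]
    exact Submodule.add_mem_sup (g₁ a₁ ha₁) (g₂ a₂ ha₂)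

theorem isLU_of_lagrangian {W L : Submodule F V} {a : F} (hW : S.ND W) (hL : L ≤ W)
    (hLi : S.Iso L) (hdim : 2 * Module.finrank F L = Module.finrank F W) (hgW : Inv' g W)
    (hiso : ∀ x ∈ L, ∀ y ∈ L, S.om (g x - a • x) (g y - a • y) = 0)
    (hdisj : ∀ x ∈ L, g x - a • x ∈ L → g x - a • x = 0) : IsLU S g a W := by
  set I := L.map (g.toLinearMap - a • LinearMap.id) with hI
  have hmem : ∀ y ∈ I, ∃ x ∈ L, g x - a • x = y := fun y hy => hy
  obtain ⟨L', h1, h2, h3, h4, h5⟩ := S.exists_complement hW hL hLi hdim _ I rfl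
    (by rintro y hy; obtain ⟨x, hx, rfl⟩ := hmem y hy
        exact sub_mem (hgW x (hL hx)) (W.smul_mem a (hL hx)))
    (by intro y hy z hz
        obtain ⟨x, hx, rfl⟩ := hmem y hy
        obtain ⟨x', hx', rfl⟩ := hmem z hz
        exact hiso x hx x' hx')
    (Submodule.disjoint_def.2 fun y hyL hy => by
      obtain ⟨x, hx, rfl⟩ := hmem y hy
      exact hdisj x hx hyL)
  exact ⟨L, L', hL, h2, h5, h4, hLi, h3, fun x hx => h1 ⟨x, hx, rfl⟩⟩

theorem split_off {W P : Submodule F V} (hg : S.Pres g) (hW : S.ND W) (hgW : Inv' g W)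
    (hP : S.ND P) (hgP : Inv' g P) (hPW : P ≤ W) :
    S.ND (W ⊓ S.perp P) ∧ Inv' g (W ⊓ S.perp P) ∧ W = P ⊔ (W ⊓ S.perp P) ∧
      S.Orth P (W ⊓ S.perp P) ∧
      (P ≠ ⊥ → Module.finrank F (W ⊓ S.perp P : Submodule F V) < Module.finrank F W) := by
  have ho : S.Orth P (W ⊓ S.perp P) := fun x hx y hy => by
    rw [S.swap y x, hy.2 x hx, neg_zero]
  have hsup : W = P ⊔ (W ⊓ S.perp P) := by
    refine le_antisymm (fun x hx => ?_) (sup_le hPW inf_le_left)
    obtain ⟨p, hp, h⟩ := S.realise hP (S.om x)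
    rw [show x = p + (x - p) by abel]
    refine Submodule.add_mem_sup hp ⟨sub_mem hx (hPW hp), fun a ha => ?_⟩
    rw [map_sub, LinearMap.sub_apply, h a ha, sub_self]
  refine ⟨fun x hx h => hW x hx.1 fun y hy => ?_, fun x hx => ⟨hgW x hx.1, fun a ha => ?_⟩, hsup,
    ho, fun hne => ?_⟩
  · rw [hsup] at hy
    obtain ⟨p, hp, r, hr, rfl⟩ := Submodule.mem_sup.1 hy
    rw [map_add, hx.2 p hp, h r hr, add_zero]
  · rw [hg.left]; exact hx.2 _ (hgP.symm_mem ha)
  · have h1 := S.finrank_perp hW hPW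
    have h2 : 1 ≤ Module.finrank F P := Submodule.one_le_finrank_iff.2 hne
    omega

theorem Frm.Orth.nd_sup {A B : Submodule F V} (ho : S.Orth A B) (hA : S.ND A) (hB : S.ND B) :
    S.ND (A ⊔ B) := by
  intro x hx h
  obtain ⟨a, ha, b, hb, rfl⟩ := Submodule.mem_sup.1 hx
  have h1 : a = 0 := hA a ha fun y hy => by
    have := h y (Submodule.mem_sup_left hy)
    rwa [map_add, LinearMap.add_apply, ho.symm b hb y hy, add_zero] at this
  have h2 : b = 0 := hB b hb fun y hy => by
    have := h y (Submodule.mem_sup_right hy)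
    rwa [map_add, LinearMap.add_apply, ho a ha y hy, zero_add] at this
  rw [h1, h2, add_zero]

theorem Frm.Orth.finrank_sup {A B : Submodule F V} (ho : S.Orth A B) (hA : S.ND A) :
    Module.finrank F (A ⊔ B : Submodule F V) = Module.finrank F A + Module.finrank F B := by
  have := Submodule.finrank_sup_add_finrank_inf_eq A B
  rwa [(disjoint_of_orth hA ho).eq_bot, finrank_bot, add_zero] at this

theorem Frm.Orth.sup_right {A B C : Submodule F V} (h₁ : S.Orth A B) (h₂ : S.Orth A C) :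
    S.Orth A (B ⊔ C) := by
  intro x hx y hy
  obtain ⟨b, hb, c, hc, rfl⟩ := Submodule.mem_sup.1 hy
  rw [map_add, h₁ x hx b hb, h₂ x hx c hc, add_zero]

theorem Inv'.sup {A B : Submodule F V} (hA : Inv' g A) (hB : Inv' g B) : Inv' g (A ⊔ B) := by
  intro x hx
  obtain ⟨a, ha, b, hb, rfl⟩ := Submodule.mem_sup.1 hx
  rw [map_add]
  exact Submodule.add_mem_sup (hA a ha) (hB b hb)

/-- A triangular system along a nilpotent chain. -/
theorem chain_tri (D : Module.End F V) {e f : V} {n : ℕ} (hn : (D ^ n) e = 0)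
    (htop : ∀ k, k + 1 = n → S.om ((D ^ k) e) f ≠ 0) (a : Fin n → F)
    (h : ∀ i : Fin n, S.om ((D ^ (i : ℕ)) (∑ j, a j • (D ^ (j : ℕ)) e)) f = 0) : a = 0 := by
  suffices ∀ (k : ℕ) (hk : k < n), a ⟨k, hk⟩ = 0 by
    funext j; exact this j.1 j.2
  intro k
  induction k using Nat.strong_induction_on with
  | _ k ih =>
    intro hk
    have := h ⟨n - 1 - k, by omega⟩
    simp only [map_sum, map_smul, LinearMap.sum_apply, LinearMap.smul_apply, smul_eq_mul,
      ← Module.End.mul_apply, ← pow_add] at this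
    rw [Finset.sum_eq_single ⟨k, hk⟩] at this
    · exact (mul_eq_zero.1 this).resolve_right (htop _ (by simp only; omega))
    · intro j _ hj
      rcases lt_trichotomy (j : ℕ) k with hjk | hjk | hjk
      · rw [ih j hjk j.2, zero_mul]
      · exact absurd (Fin.ext hjk) hj
      · obtain ⟨r, hr⟩ : ∃ r, n - 1 - k + j = r + n := ⟨n - 1 - k + j - n, by omega⟩
        rw [hr, pow_add, Module.End.mul_apply, hn, map_zero, map_zero, LinearMap.zero_apply,
          mul_zero]
    · intro h; exact absurd (Finset.mem_univ _) h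

theorem chain_solve (D : Module.End F V) {e f : V} {n : ℕ} (hn : (D ^ n) e = 0)
    (htop : ∀ k, k + 1 = n → S.om ((D ^ k) e) f ≠ 0) (φ : Fin n → F) :
    ∃ a : Fin n → F, ∀ i : Fin n,
      S.om ((D ^ (i : ℕ)) (∑ j, a j • (D ^ (j : ℕ)) e)) f = φ i := by
  let T : (Fin n → F) →ₗ[F] (Fin n → F) :=
    { toFun := fun a i => S.om ((D ^ (i : ℕ)) (∑ j, a j • (D ^ (j : ℕ)) e)) f
      map_add' := fun a b => by
        funext i; simp [add_smul, Finset.sum_add_distrib]
      map_smul' := fun c a => by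
        funext i; simp [mul_smul, ← Finset.smul_sum] }
  have hinj : Function.Injective T := (injective_iff_map_eq_zero T).2 fun a ha =>
    chain_tri D hn htop a fun i => congrFun ha i
  obtain ⟨a, ha⟩ := LinearMap.surjective_of_injective hinj φ
  exact ⟨a, fun i => congrFun ha i⟩

end H31.SPC
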