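import Cfsg.Agent.H31.SpComm.Absorb

/-!
Matrices `A` of field multiplications for which `R ↦ R - A R Aᵀ` is injective.
-/

set_option autoImplicit false
set_option linter.style.haveILetI false

open Matrix Polynomial

namespace H31.SPC

universe u

variable {F : Type u} [Field F]

theorem free_of_aeval {l : Type*} [Fintype l] [DecidableEq l] {A : GL l F} {f : F[X]}
    (h0 : aeval A.val f = 0) (hu : IsUnit (aeval (A⁻¹ : GL l F).val f)) : Free A.val := by
  set B := (A⁻¹ : GL l F).val with hB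
  have hAB : A.val * B = 1 := A.mul_inv
  have hBA : B * A.val = 1 := A.inv_mul
  have hAB' : Bᵀ * A.valᵀ = 1 := by rw [← transpose_mul, hAB, transpose_one]
  have hBA' : A.valᵀ * Bᵀ = 1 := by rw [← transpose_mul, hBA, transpose_one]
  have hT : ∀ (M : Matrix l l F) (q : F[X]), aeval Mᵀ q = (aeval M q)ᵀ := by
    intro M q
    induction q using Polynomial.induction_on' with
    | add p q hp hq => rw [map_add, map_add, hp, hq, transpose_add]
    | monomial n c => simp [aeval_monomial, Algebra.algebraMap_eq_smul_one, transpose_pow]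
  have key : ∀ (M M' R : Matrix l l F), M * R = R * M' → ∀ q : F[X],
      aeval M q * R = R * aeval M' q := by
    intro M M' R h q
    induction q using Polynomial.induction_on' with
    | add p q hp hq => rw [map_add, map_add, Matrix.add_mul, Matrix.mul_add, hp, hq]
    | monomial n c =>
      have hn : M ^ n * R = R * M' ^ n := by
        induction n with
        | zero => simp
        | succ n ih => rw [pow_succ, pow_succ, Matrix.mul_assoc, h, ← Matrix.mul_assoc, ih,
            Matrix.mul_assoc]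
      simp [aeval_monomial, Algebra.algebraMap_eq_smul_one, hn]
  obtain ⟨U, hU⟩ := hu
  constructor
  · intro R hR
    have h1 : A.val * R = R * Bᵀ := by
      conv_rhs => rw [← hR]
      rw [Matrix.mul_assoc, hBA', Matrix.mul_one]
    have h2 := key _ _ _ h1 f
    rw [h0, Matrix.zero_mul, hT, ← hU] at h2
    have h3 := congrArg transpose h2.symm
    rw [transpose_mul, transpose_transpose, transpose_zero] at h3
    have h4 := (U.mul_right_eq_zero).1 h3
    rw [← transpose_transpose R, h4, transpose_zero]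
  · intro R hR
    have h1 : A.valᵀ * R = R * B := by
      conv_rhs => rw [← hR]
      rw [Matrix.mul_assoc, hAB, Matrix.mul_one]
    have h2 := key _ _ _ h1 f
    rw [hT, h0, transpose_zero, Matrix.zero_mul, ← hU] at h2
    exact (U.mul_left_eq_zero).1 h2.symm

theorem exists_mult [Fintype F] {m : ℕ} (hm : 1 ≤ m) :
    ∃ (K : Type) (_ : Field K) (_ : Algebra F K) (_ : Fintype K),
      Module.finrank F K = m ∧ Fintype.card K = Fintype.card F ^ m ∧
      ∀ σ : Gal(K/F), ∃ i < m, ∀ x : K, σ x = x ^ (Fintype.card F ^ i) := by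
  obtain ⟨p, hp⟩ := CharP.exists F
  haveI : Fact p.Prime := ⟨CharP.char_is_prime F p⟩
  haveI : NeZero m := ⟨by omega⟩
  haveI := Fintype.ofFinite (FiniteField.Extension F p m)
  refine ⟨FiniteField.Extension F p m, inferInstance, inferInstance, inferInstance,
    FiniteField.finrank_extension F p m, ?_, fun σ => ?_⟩
  · rw [← Nat.card_eq_fintype_card, FiniteField.natCard_extension, Nat.card_eq_fintype_card]
  · obtain ⟨i, hi, rfl⟩ := FiniteField.Extension.exists_frob_pow_eq F p m σ
    exact ⟨i, hi, fun x => by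
      rw [FiniteField.Extension.frob_iterate_apply, Nat.card_eq_fintype_card]⟩

theorem free_mult {K : Type} [Field K] [Algebra F K] [Fintype K] {m : ℕ}
    (b : Module.Basis (Fin m) F K) {lam : K}
    (hne : ∀ σ : Gal(K/F), σ lam ≠ lam⁻¹) (A : GL (Fin m) F)
    (hA : A.val = Algebra.leftMulMatrix b lam) (hlam : lam ≠ 0) : Free A.val := by
  haveI : Module.Finite F K := Module.Finite.of_basis b
  haveI : Finite F := Finite.of_injective _ (algebraMap F K).injective
  refine free_of_aeval (f := minpoly F lam) ?_ ?_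
  · rw [hA, aeval_algHom_apply, minpoly.aeval, map_zero]
  · have hB : (A⁻¹ : GL (Fin m) F).val = Algebra.leftMulMatrix b lam⁻¹ := by
      refine left_inv_eq_right_inv (A.inv_mul) ?_
      rw [hA, ← map_mul, mul_inv_cancel₀ hlam, map_one]
    rw [hB, aeval_algHom_apply]
    refine (IsUnit.mk0 _ ?_).map _
    intro h0
    obtain ⟨σ, hσ⟩ := minpoly.exists_algEquiv_of_root (Algebra.IsAlgebraic.isAlgebraic lam) h0
    exact hne σ (inv_eq_iff_eq_inv.1 (by rwa [map_inv₀] at hσ))

theorem exists_free_one [Fintype F] {m : ℕ} (hm : 1 ≤ m) (h1 : m = 1 → 4 ≤ Fintype.card F)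
    (h2 : m = 2 → 3 ≤ Fintype.card F) : ∃ A : GL (Fin m) F, Free A.val := by
  obtain ⟨K, _, _, _, hfin, hcard, hfrob⟩ := exists_mult (F := F) hm
  haveI : Module.Finite F K := Module.finite_of_finrank_pos (by omega)
  let b := Module.finBasisOfFinrankEq F K hfin
  obtain ⟨ξ, hξ⟩ := IsCyclic.exists_ofOrder_eq_natCard (α := Kˣ)
  rw [Nat.card_units, Nat.card_eq_fintype_card, hcard] at hξ
  let A : GL (Fin m) F := Units.map (Algebra.leftMulMatrix b).toRingHom.toMonoidHom ξ
  refine ⟨A, free_mult b (lam := (ξ : K)) (fun σ hσ => ?_) A rfl ξ.ne_zero⟩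
  obtain ⟨i, hi, hs⟩ := hfrob σ
  rw [hs] at hσ
  set q := Fintype.card F with hq
  have hq2 : 2 ≤ q := Fintype.one_lt_card
  have hpow : ξ ^ (q ^ i + 1) = 1 := by
    refine Units.ext ?_
    rw [Units.val_pow_eq_pow_val, pow_succ, hσ, inv_mul_cancel₀ ξ.ne_zero, Units.val_one]
  have hdvd := orderOf_dvd_of_pow_eq_one hpow
  rw [hξ] at hdvd
  have hle := Nat.le_of_dvd (by positivity) hdvd
  obtain ⟨k, rfl⟩ : ∃ k, m = k + 1 := ⟨m - 1, by omega⟩
  have h3 : q ^ i ≤ q ^ k := Nat.pow_le_pow_right (by omega) (by omega)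
  rw [pow_succ] at hle
  have h4 : q ^ k * 2 ≤ q ^ k * q := Nat.mul_le_mul_left _ hq2
  rcases Nat.lt_or_ge k 1 with hk | hk
  · obtain rfl : k = 0 := by omega
    have := h1 rfl
    simp at h3 hle
    omega
  rcases Nat.lt_or_ge k 2 with hk' | hk'
  · obtain rfl : k = 1 := by omega
    have := h2 rfl
    simp at h3 hle h4
    nlinarith
  · have : 4 ≤ q ^ k := le_trans (by norm_num) ((Nat.pow_le_pow_left hq2 2).trans
      (Nat.pow_le_pow_right (by omega) hk'))
    omega

theorem exists_free_neg [Fintype F] (h3 : 3 ≤ Fintype.card F) (hodd : Odd (Fintype.card F))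
    {d : ℕ} (hd : 2 ≤ d) :
    ∃ A P : GL (Fin (2 * d)) F, Free A.val ∧
      (A * (P * A⁻¹ * P⁻¹)).val = (-1 : Matrix (Fin (2 * d)) (Fin (2 * d)) F) := by
  obtain ⟨K, _, _, _, hfin, hcard, hfrob⟩ := exists_mult (F := F) (m := 2 * d) (by omega)
  haveI : Module.Finite F K := Module.finite_of_finrank_pos (by omega)
  let b := Module.finBasisOfFinrankEq F K hfin
  set q := Fintype.card F with hq
  obtain ⟨ξ, hξ⟩ := IsCyclic.exists_ofOrder_eq_natCard (α := Kˣ)
  rw [Nat.card_units, Nat.card_eq_fintype_card, hcard] at hξ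
  obtain ⟨c, hc⟩ : ∃ c, q ^ d + 1 = 2 * c := by
    obtain ⟨e, he⟩ := (hodd.pow : Odd (q ^ d))
    exact ⟨e + 1, by omega⟩
  set lu := ξ ^ c with hlu
  have hqd : 3 ≤ q ^ d := le_trans h3 (Nat.le_self_pow (by omega) q)
  have hord : orderOf lu = 2 * (q ^ d - 1) := by
    have hN : q ^ (2 * d) - 1 = c * (2 * (q ^ d - 1)) := by
      rw [show q ^ (2 * d) = q ^ d * q ^ d by ring]
      obtain ⟨e, he⟩ : ∃ e, q ^ d = e + 1 := ⟨q ^ d - 1, by omega⟩
      rw [he] at hc ⊢
      simp only [Nat.add_sub_cancel]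
      calc (e + 1) * (e + 1) - 1 = e * e + 2 * e := by ring_nf; omega
        _ = (2 * c) * e := by rw [← hc]; ring
        _ = _ := by ring
    have hdvd : c ∣ orderOf ξ := ⟨_, hξ.trans hN⟩
    rw [hlu, orderOf_pow_of_dvd (by omega) hdvd, hξ, hN, Nat.mul_div_cancel_left _ (by omega)]
  set lam := (lu : K) with hlam
  have hneg : lam ^ (q ^ d) = -lam := by
    have h1 : lam ^ (q ^ d - 1) = -1 := by
      have hsq : lam ^ (q ^ d - 1) * lam ^ (q ^ d - 1) = 1 := by
        rw [← pow_add, ← two_mul, hlam, ← Units.val_pow_eq_pow_val, ← hord, pow_orderOf_eq_one,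
          Units.val_one]
      refine (mul_self_eq_one_iff.1 hsq).resolve_left fun h => ?_
      have h' : lu ^ (q ^ d - 1) = 1 := Units.ext (by rw [Units.val_pow_eq_pow_val]; exact h)
      have := Nat.le_of_dvd (by omega) (orderOf_dvd_of_pow_eq_one h')
      omega
    calc lam ^ (q ^ d) = lam ^ (q ^ d - 1) * lam := by rw [← pow_succ]; congr 1; omega
      _ = -lam := by rw [h1, neg_one_mul]
  let A : GL (Fin (2 * d)) F := Units.map (Algebra.leftMulMatrix b).toRingHom.toMonoidHom lu
  have hA : A.val = Algebra.leftMulMatrix b lam := rfl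
  obtain ⟨p, hp⟩ := CharP.exists F
  haveI : Fact p.Prime := ⟨CharP.char_is_prime F p⟩
  let σ : Gal(K/F) := (FiniteField.frobeniusAlgEquivOfAlgebraic F K) ^ d
  have hσ : ∀ x : K, σ x = x ^ (q ^ d) := fun x => by
    simp [σ, FiniteField.coe_frobeniusAlgEquivOfAlgebraic_iterate, AlgEquiv.coe_pow, hq]
  set Pm : Matrix (Fin (2 * d)) (Fin (2 * d)) F := LinearMap.toMatrix b b σ.toLinearMap
  set Pm' : Matrix (Fin (2 * d)) (Fin (2 * d)) F := LinearMap.toMatrix b b σ.symm.toLinearMap
  have hPP : Pm * Pm' = 1 := by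
    rw [← LinearMap.toMatrix_comp, ← LinearMap.toMatrix_id b]; congr 1; ext x; simp
  let P : GL (Fin (2 * d)) F := ⟨Pm, Pm', hPP, mul_eq_one_comm.1 hPP⟩
  refine ⟨A, P, free_mult b (lam := lam) (fun τ hτ => ?_) A hA lu.ne_zero, ?_⟩
  · obtain ⟨i, hi, hs⟩ := hfrob τ
    rw [hs] at hτ
    have hpow : lu ^ (q ^ i + 1) = 1 := by
      refine Units.ext ?_
      rw [Units.val_pow_eq_pow_val, pow_succ, ← hlam, hτ, inv_mul_cancel₀ lu.ne_zero, Units.val_one]
    have hdvd := orderOf_dvd_of_pow_eq_one hpow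
    rw [hord] at hdvd
    by_cases hid : i ≤ d
    · have h5 := Nat.le_of_dvd (by positivity) hdvd
      have h6 : q ^ i ≤ q ^ d := Nat.pow_le_pow_right (by omega) hid
      have h7 : 9 ≤ q ^ d := le_trans (by norm_num)
        ((Nat.pow_le_pow_left h3 2).trans (Nat.pow_le_pow_right (by omega) hd))
      omega
    · obtain ⟨j, rfl⟩ : ∃ j, i = d + j := ⟨i - d, by omega⟩
      have h5 : q ^ d - 1 ∣ q ^ j + 1 := by
        have h6 : q ^ d - 1 ∣ q ^ (d + j) + 1 := (Dvd.intro_left 2 rfl).trans hdvd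
        have h7 : q ^ (d + j) + 1 = q ^ j * (q ^ d - 1) + (q ^ j + 1) := by
          obtain ⟨e, he⟩ : ∃ e, q ^ d = e + 1 := ⟨q ^ d - 1, by omega⟩
          rw [pow_add, he, Nat.add_sub_cancel]; ring
        rw [h7] at h6
        exact (Nat.dvd_add_right (Dvd.intro_left _ rfl)).1 h6
      have h8 := Nat.le_of_dvd (by positivity) h5
      have h9 : q ^ j * 3 ≤ q ^ d := by
        calc q ^ j * 3 ≤ q ^ j * q := Nat.mul_le_mul_left _ h3
          _ = q ^ (j + 1) := (pow_succ q j).symm
          _ ≤ q ^ d := Nat.pow_le_pow_right (by omega) (by omega)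
      have h10 : 3 ≤ q ^ j := le_trans h3 (Nat.le_self_pow (by omega) q)
      omega
  · have hc : P.val * A.val = (-A.val) * P.val := by
      show Pm * A.val = (-A.val) * Pm
      rw [hA, ← map_neg, Algebra.leftMulMatrix_apply, Algebra.leftMulMatrix_apply,
        ← LinearMap.toMatrix_comp, ← LinearMap.toMatrix_comp]
      congr 1
      ext x
      simp [hσ, mul_pow, hneg]
    have h2 : P * A * P⁻¹ = -A := by
      rw [mul_inv_eq_iff_eq_mul]
      exact Units.ext (by rw [Units.val_mul, Units.val_mul, hc, Units.val_neg])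
    have h3 : P * A⁻¹ * P⁻¹ = -A⁻¹ := by
      rw [show P * A⁻¹ * P⁻¹ = (P * A * P⁻¹)⁻¹ by group, h2]
      exact (inv_eq_of_mul_eq_one_right (by rw [neg_mul_neg, mul_inv_cancel]))
    rw [h3, mul_neg, mul_inv_cancel, Units.val_neg, Units.val_one]

end H31.SPC
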