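import Cfsg.Agent.H31.SpComm.Basic
import Cfsg.Agent.H31.SpComm.Field

/-!
From `IsLU` to commutators supported on the subspace.
-/

set_option autoImplicit false
set_option linter.style.haveILetI false
set_option linter.unusedSectionVars false

open Matrix

namespace H31.SPC

universe u v

variable {F : Type u} [Field F] {V : Type v} [AddCommGroup V] [Module F V] [FiniteDimensional F V]
variable {S : Frm F V}

/-- `g` agrees on `W` with a commutator of isometries fixing `W^⊥` pointwise. -/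
def Comm (S : Frm F V) (g : V ≃ₗ[F] V) (W : Submodule F V) : Prop :=
  ∃ a b : V ≃ₗ[F] V, S.Pres a ∧ S.Pres b ∧ (∀ x ∈ S.perp W, a x = x ∧ b x = x) ∧
    ∀ x ∈ W, a (b (a.symm (b.symm x))) = g x

theorem comm_of_id {g : V ≃ₗ[F] V} {W : Submodule F V} (h : ∀ x ∈ W, g x = x) : Comm S g W :=
  ⟨LinearEquiv.refl F V, LinearEquiv.refl F V, fun _ _ => rfl, fun _ _ => rfl,
    fun _ _ => ⟨rfl, rfl⟩, fun x hx => (h x hx).symm⟩

theorem maps_self {W : Submodule F V} (hW : S.ND W) {a : V ≃ₗ[F] V} (ha : S.Pres a)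
    (hfix : ∀ x ∈ S.perp W, a x = x) : Inv' a W := by
  intro x hx
  obtain ⟨p, hp, h⟩ := S.realise hW (S.om (a x))
  have hr : a x - p ∈ S.perp W := fun w hw => by
    rw [map_sub, LinearMap.sub_apply, h w hw, sub_self]
  suffices a x - p = 0 by rw [sub_eq_zero.1 this]; exact hp
  refine S.sep _ fun y => ?_
  obtain ⟨q, hq, h'⟩ := S.realise hW (S.om y)
  have hy : y - q ∈ S.perp W := fun w hw => by
    rw [map_sub, LinearMap.sub_apply, h' w hw, sub_self]
  rw [show y = q + (y - q) by abel, map_add, hr q hq, zero_add, LinearMap.map_sub₂,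
    S.swap (y - q) p, hy p hp, neg_zero, sub_zero]
  conv_lhs => rw [← hfix _ hy]
  rw [ha, S.swap (y - q) x, hy x hx, neg_zero]

theorem Comm.sup {g : V ≃ₗ[F] V} {A B : Submodule F V} (hA : Comm S g A) (hB : Comm S g B)
    (hnA : S.ND A) (hnB : S.ND B) (ho : S.Orth A B) : Comm S g (A ⊔ B) := by
  obtain ⟨a₁, b₁, pa₁, pb₁, f₁, e₁⟩ := hA
  obtain ⟨a₂, b₂, pa₂, pb₂, f₂, e₂⟩ := hB
  have hAB : A ≤ S.perp B := fun x hx => ho x hx
  have hBA : B ≤ S.perp A := fun x hx => ho.symm x hx
  have s₁ : ∀ x ∈ S.perp A, a₁.symm x = x ∧ b₁.symm x = x := fun x hx =>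
    ⟨a₁.symm_apply_eq.2 (f₁ x hx).1.symm, b₁.symm_apply_eq.2 (f₁ x hx).2.symm⟩
  have s₂ : ∀ x ∈ S.perp B, a₂.symm x = x ∧ b₂.symm x = x := fun x hx =>
    ⟨a₂.symm_apply_eq.2 (f₂ x hx).1.symm, b₂.symm_apply_eq.2 (f₂ x hx).2.symm⟩
  have ma₁ := maps_self hnA pa₁ fun x hx => (f₁ x hx).1
  have mb₁ := maps_self hnA pb₁ fun x hx => (f₁ x hx).2
  have ma₂ := maps_self hnB pa₂ fun x hx => (f₂ x hx).1
  have mb₂ := maps_self hnB pb₂ fun x hx => (f₂ x hx).2
  refine ⟨a₂.trans a₁, b₂.trans b₁, fun x y => by simp [pa₁ (a₂ x), pa₂ x],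
    fun x y => by simp [pb₁ (b₂ x), pb₂ x], fun x hx => ?_, fun x hx => ?_⟩
  · have hxA : x ∈ S.perp A := fun a ha => hx a (Submodule.mem_sup_left ha)
    have hxB : x ∈ S.perp B := fun a ha => hx a (Submodule.mem_sup_right ha)
    simp [(f₂ x hxB).1, (f₂ x hxB).2, (f₁ x hxA).1, (f₁ x hxA).2]
  · obtain ⟨p, hp, q, hq, rfl⟩ := Submodule.mem_sup.1 hx
    simp only [map_add, LinearEquiv.trans_apply, LinearEquiv.symm_trans_apply]
    congr 1
    · have h1 := mb₁.symm_mem hp
      have h2 := ma₁.symm_mem h1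
      have h3 := mb₁ _ h2
      rw [(s₂ _ (hAB h1)).2, (s₂ _ (hAB h2)).1, (f₂ _ (hAB h2)).2, (f₂ _ (hAB h3)).1]
      exact e₁ p hp
    · have h1 := mb₂.symm_mem hq
      have h2 := ma₂.symm_mem h1
      have h3 := mb₂ _ h2
      have h4 := ma₂ _ h3
      rw [(s₁ _ (hBA hq)).2, (s₁ _ (hBA h1)).1, (f₁ _ (hBA h3)).2 |> fun h => h, (f₁ _ (hBA h4)).1]
      exact e₂ q hq

/-! ### Coordinates -/

variable {m : ℕ}

/-- Coordinates with respect to a hyperbolic family. -/
def coord (S : Frm F V) (e f : Fin m → V) : V →ₗ[F] (Fin m ⊕ Fin m → F) :=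
  LinearMap.pi (Sum.elim (fun i => -S.om.flip (f i)) (fun i => S.om.flip (e i)))

theorem coord_inl (e f : Fin m → V) (x : V) (i : Fin m) :
    coord S e f x (Sum.inl i) = -S.om x (f i) := rfl

theorem coord_inr (e f : Fin m → V) (x : V) (i : Fin m) :
    coord S e f x (Sum.inr i) = S.om x (e i) := rfl

/-- A hyperbolic family spanning `W`. -/
structure Hyp (S : Frm F V) (W : Submodule F V) (e f : Fin m → V) : Prop where
  memE : ∀ i, e i ∈ W
  memF : ∀ i, f i ∈ W
  ee : ∀ i j, S.om (e i) (e j) = 0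
  ff : ∀ i j, S.om (f i) (f j) = 0
  ef : ∀ i j, S.om (e i) (f j) = if i = j then -1 else 0
  span : ∀ x ∈ W, (∀ i, S.om x (e i) = 0) → (∀ i, S.om x (f i) = 0) → x = 0

/-- Linear combination. -/
noncomputable def comb (e f : Fin m → V) : (Fin m ⊕ Fin m → F) →ₗ[F] V :=
  Fintype.linearCombination F (Sum.elim e f)

theorem comb_apply (e f : Fin m → V) (c : Fin m ⊕ Fin m → F) :
    comb e f c = (∑ i, c (Sum.inl i) • e i) + ∑ i, c (Sum.inr i) • f i := by
  simp [comb, Fintype.linearCombination_apply, Fintype.sum_sum_type]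

namespace Hyp

variable {W : Submodule F V} {e f : Fin m → V} (H : Hyp S W e f)

include H

theorem fe (i j : Fin m) : S.om (f i) (e j) = if i = j then 1 else 0 := by
  rw [S.swap (e j) (f i), H.ef]
  split_ifs with h1 h2 h2
  · rw [neg_neg]
  · exact absurd h1.symm h2
  · exact absurd h2.symm h1
  · rw [neg_zero]

theorem coord_comb (c : Fin m ⊕ Fin m → F) : coord S e f (comb e f c) = c := by
  funext k
  rcases k with k | k
  · simp [coord_inl, comb_apply, map_sum, LinearMap.sum_apply, H.ef, H.ff]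
  · simp [coord_inr, comb_apply, map_sum, LinearMap.sum_apply, H.fe, H.ee]

theorem comb_mem (c : Fin m ⊕ Fin m → F) : comb e f c ∈ W := by
  rw [comb_apply]
  exact add_mem (sum_mem fun i _ => W.smul_mem _ (H.memE i))
    (sum_mem fun i _ => W.smul_mem _ (H.memF i))

theorem coord_res (x : V) : coord S e f (x - comb e f (coord S e f x)) = 0 := by
  rw [map_sub, H.coord_comb, sub_self]

theorem res_orth (x : V) (c : Fin m ⊕ Fin m → F) :
    S.om (x - comb e f (coord S e f x)) (comb e f c) = 0 := by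
  have h := H.coord_res x
  simp only [comb_apply (c := c), map_add, map_sum, map_smul, smul_eq_mul]
  have h1 : ∀ i, S.om (x - comb e f (coord S e f x)) (e i) = 0 := fun i => by
    have := congrFun h (Sum.inr i); rwa [coord_inr] at this
  have h2 : ∀ i, S.om (x - comb e f (coord S e f x)) (f i) = 0 := fun i => by
    have := congrFun h (Sum.inl i); rwa [coord_inl, Pi.zero_apply, neg_eq_zero] at this
  generalize x - comb e f (coord S e f x) = r at h1 h2 ⊢
  simp [h1, h2]

theorem comb_coord {x : V} (hx : x ∈ W) : comb e f (coord S e f x) = x := by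
  refine (sub_eq_zero.1 (H.span _ (sub_mem hx (H.comb_mem _)) (fun i => ?_) fun i => ?_)).symm
  · have := congrFun (H.coord_res x) (Sum.inr i); rwa [coord_inr] at this
  · have := congrFun (H.coord_res x) (Sum.inl i)
    rwa [coord_inl, Pi.zero_apply, neg_eq_zero] at this

theorem coord_perp {x : V} (hx : x ∈ S.perp W) : coord S e f x = 0 := by
  funext k
  rcases k with k | k
  · rw [coord_inl, hx _ (H.memF k), neg_zero, Pi.zero_apply]
  · rw [coord_inr, hx _ (H.memE k), Pi.zero_apply]

theorem om_comb (c d : Fin m ⊕ Fin m → F) :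
    S.om (comb e f c) (comb e f d) = c ⬝ᵥ (J (Fin m) F *ᵥ d) := by
  simp [comb_apply, map_sum, LinearMap.sum_apply, H.ee, H.ff, H.ef, H.fe, J, dotProduct, mulVec,
    Fintype.sum_sum_type, Matrix.one_apply, Finset.sum_neg_distrib]

/-- Extension of a symplectic matrix by the identity on the orthogonal space. -/
noncomputable def extLin (M : Matrix (Fin m ⊕ Fin m) (Fin m ⊕ Fin m) F) : Module.End F V :=
  LinearMap.id + (comb e f) ∘ₗ (Matrix.mulVecLin M - LinearMap.id) ∘ₗ (coord S e f)

theorem extLin_mul (M N : Matrix (Fin m ⊕ Fin m) (Fin m ⊕ Fin m) F) :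
    extLin (S := S) (e := e) (f := f) (M * N) =
      extLin (S := S) (e := e) (f := f) M * extLin (S := S) (e := e) (f := f) N := by
  ext x
  simp only [extLin, Module.End.mul_apply, LinearMap.add_apply, LinearMap.id_apply,
    LinearMap.comp_apply, LinearMap.sub_apply, mulVecLin_apply, map_add, map_sub, H.coord_comb,
    mulVec_add, mulVec_sub, mulVec_mulVec]
  abel

theorem extLin_one : extLin (S := S) (e := e) (f := f) (1 : Matrix _ _ F) = 1 := by
  ext x; simp [extLin]

/-- As a linear equivalence. -/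
noncomputable def ext' (M : symplecticGroup (Fin m) F) : V ≃ₗ[F] V :=
  LinearEquiv.ofLinear (extLin (S := S) (e := e) (f := f) M.val)
    (extLin (S := S) (e := e) (f := f) (M⁻¹).val)
    (by rw [← Module.End.mul_eq_comp, ← H.extLin_mul, ← Submonoid.coe_mul, mul_inv_cancel,
      Submonoid.coe_one, H.extLin_one]; rfl)
    (by rw [← Module.End.mul_eq_comp, ← H.extLin_mul, ← Submonoid.coe_mul, inv_mul_cancel,
      Submonoid.coe_one, H.extLin_one]; rfl)

theorem ext'_apply (M : symplecticGroup (Fin m) F) (x : V) :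
    H.ext' M x = (x - comb e f (coord S e f x)) + comb e f (M.val *ᵥ coord S e f x) := by
  simp [ext', extLin]
  abel

theorem ext'_symm (M : symplecticGroup (Fin m) F) (x : V) :
    (H.ext' M).symm x = H.ext' M⁻¹ x := rfl

theorem ext'_pres (M : symplecticGroup (Fin m) F) : S.Pres (H.ext' M) := by
  intro x y
  have hM : ∀ c d : Fin m ⊕ Fin m → F,
      (M.val *ᵥ c) ⬝ᵥ (J (Fin m) F *ᵥ (M.val *ᵥ d)) = c ⬝ᵥ (J (Fin m) F *ᵥ d) := fun c d => by
    conv_rhs => rw [← SymplecticGroup.mem_iff'.1 M.2]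
    rw [← mulVec_mulVec, ← mulVec_mulVec, dotProduct_mulVec c M.valᵀ, vecMul_transpose]
  set rx := x - comb e f (coord S e f x) with hrx
  set ry := y - comb e f (coord S e f y) with hry
  have hr : ∀ c, S.om rx (comb e f c) = 0 := H.res_orth x
  have hr' : ∀ c, S.om (comb e f c) ry = 0 := fun c => by
    rw [S.swap ry, H.res_orth y c, neg_zero]
  rw [H.ext'_apply, H.ext'_apply, ← hrx, ← hry]
  conv_rhs => rw [show x = rx + comb e f (coord S e f x) by rw [hrx]; abel,
    show y = ry + comb e f (coord S e f y) by rw [hry]; abel]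
  simp only [map_add, LinearMap.add_apply, hr, hr', H.om_comb, hM]

theorem ext'_comb (M : symplecticGroup (Fin m) F) (c : Fin m ⊕ Fin m → F) :
    H.ext' M (comb e f c) = comb e f (M.val *ᵥ c) := by
  rw [H.ext'_apply, H.coord_comb, sub_self, zero_add]

theorem comm_of_matrix {g : V ≃ₗ[F] V} {A B G : symplecticGroup (Fin m) F}
    (hG : G = A * B * A⁻¹ * B⁻¹)
    (hg : ∀ c, g (comb e f c) = comb e f (G.val *ᵥ c)) : Comm S g W := by
  refine ⟨H.ext' A, H.ext' B, H.ext'_pres A, H.ext'_pres B, fun x hx => ?_, fun x hx => ?_⟩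
  · simp [H.ext'_apply, H.coord_perp hx]
  · rw [← H.comb_coord hx, H.ext'_symm, H.ext'_symm, H.ext'_comb, H.ext'_comb, H.ext'_comb,
      H.ext'_comb, hg, hG]
    simp only [Submonoid.coe_mul, ← mulVec_mulVec]

theorem exists_matrix {g : V ≃ₗ[F] V} (hg : S.Pres g) (hgW : Inv' g W) :
    ∃ G : symplecticGroup (Fin m) F, (∀ c, g (comb e f c) = comb e f (G.val *ᵥ c)) ∧
      ∀ i k, G.val k (Sum.inl i) = coord S e f (g (e i)) k := by
  let Φ : (Fin m ⊕ Fin m → F) →ₗ[F] (Fin m ⊕ Fin m → F) :=
    (coord S e f) ∘ₗ g.toLinearMap ∘ₗ (comb e f)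
  set M := LinearMap.toMatrix' Φ with hM
  have hMv : ∀ c, M *ᵥ c = coord S e f (g (comb e f c)) := fun c => by
    rw [← Matrix.toLin'_apply, hM, Matrix.toLin'_toMatrix']
    rfl
  have hgc : ∀ c, g (comb e f c) = comb e f (M *ᵥ c) := fun c => by
    rw [hMv, H.comb_coord (hgW _ (H.comb_mem c))]
  have hmem : M ∈ symplecticGroup (Fin m) F := by
    rw [SymplecticGroup.mem_iff']
    ext i j
    have h := hg (comb e f (Pi.single i (1 : F))) (comb e f (Pi.single j (1 : F)))
    rw [hgc, hgc, H.om_comb, H.om_comb] at h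
    rw [dotProduct_mulVec, dotProduct_mulVec, vecMul_mulVec] at h
    simpa [dotProduct, mulVec_single, vecMul, Matrix.mul_apply, Pi.single_apply] using h
  refine ⟨⟨M, hmem⟩, hgc, fun i k => ?_⟩
  have h1 : comb e f (Pi.single (Sum.inl i) (1 : F)) = e i := by
    simp [comb, Fintype.linearCombination_apply, Pi.single_apply]
  rw [← h1, ← hMv]
  simp

end Hyp

theorem IsLU.exists_hyp {g : V ≃ₗ[F] V} {a : F} {W : Submodule F V} (hW : S.ND W)
    (h : IsLU S g a W) : ∃ (m : ℕ) (e f : Fin m → V), Module.finrank F W = 2 * m ∧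
      Hyp S W e f ∧ (∀ i j, coord S e f (g (e i)) (Sum.inl j) = if i = j then a else 0) := by
  obtain ⟨L, L', hL, hL', hs, hd, hi, hi', hgl⟩ := h
  have hsum : Module.finrank F W = Module.finrank F L + Module.finrank F L' := by
    have h1 := Submodule.finrank_sup_add_finrank_inf_eq L L'
    rw [hd.eq_bot, finrank_bot, add_zero] at h1
    rw [← h1, le_antisymm hs (sup_le hL hL')]
  have b1 := S.iso_le_half hW hL hi
  have b2 := S.iso_le_half hW hL' hi'
  set m := Module.finrank F L with hm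
  let b := Module.finBasis F L
  let e : Fin m → V := fun i => (b i : V)
  have hex : ∀ j : Fin m, ∃ fj ∈ L', ∀ i, S.om (e i) fj = if i = j then -1 else 0 := by
    intro j
    obtain ⟨φ, hφ⟩ := LinearMap.exists_extend (b.coord j)
    obtain ⟨w, hw, hwx⟩ := S.realise hW φ
    obtain ⟨l, hl, l', hl', rfl⟩ := Submodule.mem_sup.1 (hs hw)
    refine ⟨l', hl', fun i => ?_⟩
    have h1 : S.om (l + l') (e i) = if i = j then 1 else 0 := by
      rw [hwx _ (hL (b i).2)]
      have := LinearMap.congr_fun hφ (b i)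
      simp only [LinearMap.comp_apply, Submodule.subtype_apply] at this
      rw [this, Module.Basis.coord_apply, Module.Basis.repr_self, Finsupp.single_apply]
    rw [map_add, LinearMap.add_apply, hi l hl _ (b i).2, zero_add] at h1
    rw [S.swap l' (e i), h1]
    split_ifs <;> simp
  choose f hfL hef using hex
  have hH : Hyp S W e f :=
    { memE := fun i => hL (b i).2
      memF := fun i => hL' (hfL i)
      ee := fun i j => hi _ (b i).2 _ (b j).2
      ff := fun i j => hi' _ (hfL i) _ (hfL j)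
      ef := fun i j => hef j i
      span := by
        intro x hx h1 h2
        obtain ⟨l, hl, l', hl', rfl⟩ := Submodule.mem_sup.1 (hs hx)
        have hLperp : ∀ y ∈ L, S.om l' y = 0 := by
          intro y hy
          have : y = ∑ i, b.repr ⟨y, hy⟩ i • e i := by
            have := congrArg Subtype.val (b.sum_repr ⟨y, hy⟩)
            rw [Submodule.coe_sum] at this
            exact this.symm
          rw [this, map_sum]
          refine Finset.sum_eq_zero fun i _ => ?_
          have h3 := h1 i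
          rw [map_add, LinearMap.add_apply, hi l hl _ (b i).2, zero_add] at h3
          rw [map_smul, h3, smul_zero]
        have hl'0 : l' = 0 := hW l' (hL' hl') fun y hy => by
          obtain ⟨y₁, hy₁, y₂, hy₂, rfl⟩ := Submodule.mem_sup.1 (hs hy)
          rw [map_add, hLperp y₁ hy₁, hi' l' hl' y₂ hy₂, add_zero]
        subst hl'0
        rw [add_zero] at h2 hx ⊢
        have hc : l = ∑ i, b.repr ⟨l, hl⟩ i • e i := by
          have := congrArg Subtype.val (b.sum_repr ⟨l, hl⟩)
          rw [Submodule.coe_sum] at this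
          exact this.symm
        rw [hc]
        refine Finset.sum_eq_zero fun k _ => ?_
        have h3 := h2 k
        rw [hc, map_sum, LinearMap.sum_apply, Finset.sum_eq_single k] at h3
        · simp only [map_smul, LinearMap.smul_apply, hef, if_pos, smul_eq_mul, mul_neg, mul_one,
            neg_eq_zero] at h3
          rw [h3, zero_smul]
        · intro i _ hik
          simp [hef, hik]
        · intro hk; exact absurd (Finset.mem_univ _) hk }
  refine ⟨m, e, f, by omega, hH, fun i j => ?_⟩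
  have h4 : S.om (g (e i) - a • e i) (f j) = 0 := hi' _ (hgl _ (b i).2) _ (hfL j)
  rw [map_sub, LinearMap.sub_apply, map_smul, LinearMap.smul_apply, sub_eq_zero, hef] at h4
  rw [coord_inl, h4]
  split_ifs <;> simp

variable [Fintype F]

theorem comm_of_lu_one {g : V ≃ₗ[F] V} {W : Submodule F V} (hg : S.Pres g) (hgW : Inv' g W)
    (hW : S.ND W) (h : IsLU S g 1 W) (h1 : Module.finrank F W = 2 → 4 ≤ Fintype.card F)
    (h2 : Module.finrank F W = 4 → 3 ≤ Fintype.card F) : Comm S g W := by
  obtain ⟨m, e, f, hm, H, hblk⟩ := h.exists_hyp hW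
  rcases Nat.eq_zero_or_pos m with rfl | hm0
  · refine comm_of_id fun x hx => ?_
    rw [Submodule.finrank_eq_zero.1 (by omega : Module.finrank F W = 0), Submodule.mem_bot] at hx
    rw [hx, map_zero]
  obtain ⟨G, hG, hGe⟩ := H.exists_matrix hg hgW
  obtain ⟨A, hA⟩ := exists_free_one (F := F) hm0 (fun hh => h1 (by omega)) (fun hh => h2 (by omega))
  obtain ⟨X, Y, hXY⟩ := comm_of_block (M := G) (P := 1) hA (by
    ext i j
    rw [one_mul, inv_one, mul_one, mul_inv_cancel, Units.val_one, Matrix.one_apply]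
    exact (hGe j (Sum.inl i)).trans ((hblk j i).trans (by simp [eq_comm])))
  exact H.comm_of_matrix hXY hG

theorem comm_of_lu_neg {g : V ≃ₗ[F] V} {W : Submodule F V} (hg : S.Pres g) (hgW : Inv' g W)
    (hW : S.ND W) (h : IsLU S g (-1) W) (h3 : 3 ≤ Fintype.card F) (hodd : Odd (Fintype.card F))
    {d : ℕ} (hd : 2 ≤ d) (hdim : Module.finrank F W = 4 * d) : Comm S g W := by
  obtain ⟨m, e, f, hm, H, hblk⟩ := h.exists_hyp hW
  obtain rfl : m = 2 * d := by omega
  obtain ⟨G, hG, hGe⟩ := H.exists_matrix hg hgW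
  obtain ⟨A, P, hA, hAP⟩ := exists_free_neg (F := F) h3 hodd hd
  obtain ⟨X, Y, hXY⟩ := comm_of_block (M := G) (P := P) hA (by
    rw [hAP]
    ext i j
    rw [Matrix.neg_apply, Matrix.one_apply]
    exact (hGe j (Sum.inl i)).trans ((hblk j i).trans (by
      by_cases hij : i = j <;> simp [hij, eq_comm])))
  exact H.comm_of_matrix hXY hG

end H31.SPC
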