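import Cfsg.Agent.H31.SpComm.Basic

/-!
Pieces `C + gC` with `C` isotropic and invariant under `g + g⁻¹`.
-/

set_option autoImplicit false
set_option linter.style.haveILetI false
set_option linter.unusedSectionVars false

open Polynomial

namespace H31.SPC

universe u v

variable {F : Type u} [Field F] {V : Type v} [AddCommGroup V] [Module F V] [FiniteDimensional F V]
variable {S : Frm F V}

/-- Self-adjoint with alternating associated form. -/
structure SA (S : Frm F V) (D : Module.End F V) : Prop where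
  adj : ∀ x y, S.om (D x) y = S.om x (D y)
  alt : ∀ x, S.om (D x) x = 0

theorem SA.pow_adj {D : Module.End F V} (h : SA S D) : ∀ (n : ℕ) (x y : V),
    S.om ((D ^ n) x) y = S.om x ((D ^ n) y) := by
  intro n
  induction n with
  | zero => simp
  | succ n ih =>
    intro x y
    rw [pow_succ, Module.End.mul_apply, ih, h.adj, ← Module.End.mul_apply, ← pow_succ', pow_succ]

theorem SA.pow_alt {D : Module.End F V} (h : SA S D) (n : ℕ) (x : V) :
    S.om ((D ^ n) x) x = 0 := by
  rcases Nat.even_or_odd' n with ⟨j, rfl | rfl⟩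
  · rw [two_mul, pow_add, Module.End.mul_apply, h.pow_adj, S.self]
  · rw [show 2 * j + 1 = j + (1 + j) by omega, pow_add, Module.End.mul_apply, h.pow_adj, pow_add,
      pow_one, Module.End.mul_apply, h.alt]

theorem SA.aeval {D : Module.End F V} (h : SA S D) (q : F[X]) :
    SA S (Polynomial.aeval D q) := by
  induction q using Polynomial.induction_on' with
  | add p q hp hq =>
    exact ⟨fun x y => by simp [hp.adj, hq.adj], fun x => by simp [hp.alt, hq.alt]⟩
  | monomial n c =>
    exact ⟨fun x y => by simp [aeval_monomial, Algebra.algebraMap_eq_smul_one, h.pow_adj],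
      fun x => by simp [aeval_monomial, Algebra.algebraMap_eq_smul_one, h.pow_alt]⟩

/-- `g + g⁻¹`. -/
def sumInv (g : V ≃ₗ[F] V) : Module.End F V := g.toLinearMap + g.symm.toLinearMap

theorem sumInv_apply (g : V ≃ₗ[F] V) (x : V) : sumInv g x = g x + g.symm x := rfl

theorem sa_sumInv {g : V ≃ₗ[F] V} (hg : S.Pres g) : SA S (sumInv g) := by
  refine ⟨fun x y => ?_, fun x => ?_⟩
  · rw [sumInv_apply, sumInv_apply, map_add, LinearMap.add_apply, hg.left, hg.symm.left, map_add,
      LinearEquiv.symm_symm, add_comm]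
  · rw [sumInv_apply, map_add, LinearMap.add_apply, hg.symm.left, LinearEquiv.symm_symm,
      S.swap (g x) x, add_neg_cancel]

theorem inv_sumInv {g : V ≃ₗ[F] V} {W : Submodule F V} (h : Inv' g W) {x : V} (hx : x ∈ W) :
    sumInv g x ∈ W := add_mem (h x hx) (h.symm_mem hx)

theorem aeval_mem {D : Module.End F V} {W : Submodule F V} (h : ∀ x ∈ W, D x ∈ W) (q : F[X]) :
    ∀ x ∈ W, aeval D q x ∈ W := by
  induction q using Polynomial.induction_on' with
  | add p q hp hq => intro x hx; rw [map_add]; exact add_mem (hp x hx) (hq x hx)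
  | monomial n c =>
    intro x hx
    rw [aeval_monomial, Algebra.algebraMap_eq_smul_one, smul_mul_assoc, one_mul,
      LinearMap.smul_apply]
    refine W.smul_mem c ?_
    induction n with
    | zero => simpa using hx
    | succ n ih => rw [pow_succ', Module.End.mul_apply]; exact h _ ih

theorem pow_mem' {D : Module.End F V} {W : Submodule F V} (h : ∀ x ∈ W, D x ∈ W) (n : ℕ) :
    ∀ x ∈ W, (D ^ n) x ∈ W := fun x hx => by simpa using aeval_mem h (X ^ n) x hx

theorem sumInv_comm (g : V ≃ₗ[F] V) : Commute g.toLinearMap (sumInv g) := by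
  refine LinearMap.ext fun x => ?_
  show g (g x + g.symm x) = g (g x) + g.symm (g x)
  rw [map_add, LinearEquiv.apply_symm_apply, LinearEquiv.symm_apply_apply]

theorem aeval_comm (g : V ≃ₗ[F] V) (q : F[X]) (x : V) :
    g (aeval (sumInv g) q x) = aeval (sumInv g) q (g x) := by
  have h : Commute g.toLinearMap (aeval (sumInv g) q) := by
    induction q using Polynomial.induction_on' with
    | add p q hp hq => rw [map_add]; exact hp.add_right hq
    | monomial n c =>
      rw [aeval_monomial]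
      exact (Algebra.commute_algebraMap_right c _).mul_right ((sumInv_comm g).pow_right n)
  exact LinearMap.congr_fun h.eq x

theorem isLU_smul {g h : V ≃ₗ[F] V} {c a : F} (hgh : ∀ x, g x = c • h x) {W : Submodule F V}
    (h' : IsLU S h a W) : IsLU S g (c * a) W := by
  obtain ⟨L, L', h1, h2, h3, h4, h5, h6, h7⟩ := h'
  refine ⟨L, L', h1, h2, h3, h4, h5, h6, fun x hx => ?_⟩
  rw [hgh, mul_smul, ← smul_sub]
  exact L'.smul_mem c (h7 x hx)

theorem cyclic_piece {g : V ≃ₗ[F] V} (hg : S.Pres g) {C : Submodule F V} (hiso : S.Iso C)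
    (hs : ∀ x ∈ C, sumInv g x ∈ C) (hne : ∀ x ∈ C, (∀ y ∈ C, S.om x (g y) = 0) → x = 0) :
    S.ND (C ⊔ C.map g.toLinearMap) ∧ Inv' g (C ⊔ C.map g.toLinearMap) ∧
      ∀ a : F, IsLU S g a (C ⊔ C.map g.toLinearMap) := by
  set P := C ⊔ C.map g.toLinearMap with hP
  have hsym : ∀ x ∈ C, ∀ y ∈ C, S.om x (g y) = S.om y (g x) := by
    intro x hx y hy
    have h1 := hiso x hx _ (hs y hy)
    rw [sumInv_apply, map_add, ← hg.left, S.swap y (g x)] at h1
    linear_combination h1
  have hgd : ∀ d ∈ C, (∀ c ∈ C, S.om (g d) c = 0) → d = 0 := fun d hd h =>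
    hne d hd fun y hy => by rw [hsym d hd y hy, S.swap (g d) y, h y hy, neg_zero]
  have hnd : S.ND P := by
    intro x hx h
    obtain ⟨c, hc, z, ⟨d, hd, rfl⟩, rfl⟩ := Submodule.mem_sup.1 hx
    have hd0 : d = 0 := hgd d hd fun c' hc' => by
      have := h c' (Submodule.mem_sup_left hc')
      rwa [map_add, LinearMap.add_apply, hiso c hc c' hc', zero_add] at this
    subst hd0
    rw [map_zero, add_zero] at h ⊢
    exact hne c hc fun y hy => h _ (Submodule.mem_sup_right ⟨y, hy, rfl⟩)
  have hinv : Inv' g P := by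
    intro x hx
    obtain ⟨c, hc, z, ⟨d, hd, rfl⟩, rfl⟩ := Submodule.mem_sup.1 hx
    rw [map_add]
    refine add_mem (Submodule.mem_sup_right ⟨c, hc, rfl⟩) ?_
    have h1 : g (g d) = g (sumInv g d) - d := by
      rw [sumInv_apply, map_add, LinearEquiv.apply_symm_apply, add_sub_cancel_right]
    show g (g d) ∈ P
    rw [h1]
    exact sub_mem (Submodule.mem_sup_right ⟨_, hs d hd, rfl⟩) (Submodule.mem_sup_left hd)
  have hdisj : Disjoint C (C.map g.toLinearMap) := by
    rw [Submodule.disjoint_def]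
    rintro _ hx ⟨d, hd, rfl⟩
    rw [hgd d hd fun c hc => hiso _ hx c hc, map_zero]
  have hdim : 2 * Module.finrank F C = Module.finrank F P := by
    have := Submodule.finrank_sup_add_finrank_inf_eq C (C.map g.toLinearMap)
    rw [hdisj.eq_bot, finrank_bot, add_zero, LinearEquiv.finrank_map_eq] at this
    rw [hP, this]; ring
  refine ⟨hnd, hinv, fun a => isLU_of_lagrangian g hnd le_sup_left hiso hdim hinv ?_ ?_⟩
  · intro x hx y hy
    have h1 := hiso x hx _ (hs y hy)
    rw [sumInv_apply, map_add, ← hg.left] at h1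
    simp only [map_sub, LinearMap.sub_apply, map_smul, LinearMap.smul_apply, smul_eq_mul,
      hg x y, hiso x hx y hy]
    linear_combination (-a) * h1
  · intro x hx hC
    have h1 : g x ∈ C := by
      have := add_mem hC (C.smul_mem a hx)
      rwa [sub_add_cancel] at this
    rw [hgd x hx fun c hc => hiso _ h1 c hc, map_zero, smul_zero, sub_zero]

theorem ne_bot_piece {g : V ≃ₗ[F] V} {C : Submodule F V} {x : V} (hx : x ∈ C) (h0 : x ≠ 0) :
    C ⊔ C.map g.toLinearMap ≠ ⊥ := fun h =>
  h0 ((Submodule.mem_bot F).1 (h ▸ Submodule.mem_sup_left hx))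

theorem primary_piece {g : V ≃ₗ[F] V} (hg : S.Pres g) {W : Submodule F V} (hgW : Inv' g W)
    {π : F[X]} (hπ : Irreducible π) {n : ℕ} (hn : 1 ≤ n)
    (hkill : ∀ x ∈ W, aeval (sumInv g) (π ^ n) x = 0)
    {e : V} (he : e ∈ W) (hQ : S.om (aeval (sumInv g) (π ^ (n - 1)) e) (g e) ≠ 0) :
    ∃ P, P ≤ W ∧ P ≠ ⊥ ∧ S.ND P ∧ Inv' g P ∧ ∀ a : F, IsLU S g a P := by
  set s := sumInv g with hs
  let ev : F[X] →ₗ[F] V := (LinearMap.applyₗ e).comp (aeval s).toLinearMap
  have hev : ∀ q, ev q = aeval s q e := fun _ => rfl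
  set C := LinearMap.range ev
  have hSA := sa_sumInv (S := S) hg
  have hiso : S.Iso C := by
    rintro _ ⟨q, rfl⟩ _ ⟨r, rfl⟩
    rw [hev, hev, S.swap, (hSA.aeval r).adj, ← Module.End.mul_apply, ← map_mul, S.swap,
      (hSA.aeval _).alt, neg_zero, neg_zero]
  have hsC : ∀ x ∈ C, s x ∈ C := by
    rintro _ ⟨q, rfl⟩
    exact ⟨X * q, by rw [hev, map_mul, aeval_X, Module.End.mul_apply, hev]⟩
  have hne : ∀ x ∈ C, (∀ y ∈ C, S.om x (g y) = 0) → x = 0 := by
    rintro _ ⟨q, rfl⟩ h
    rw [hev]
    by_cases hq : q = 0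
    · rw [hq, map_zero, LinearMap.zero_apply]
    obtain ⟨i, r, hr, rfl⟩ := WfDvdMonoid.max_power_factor hq hπ
    by_cases hi : n ≤ i
    · obtain ⟨j, rfl⟩ := Nat.exists_eq_add_of_le hi
      rw [pow_add, show π ^ n * π ^ j * r = (π ^ j * r) * π ^ n by ring, map_mul,
        Module.End.mul_apply, hkill e he, map_zero]
    exfalso
    obtain ⟨a, b, hab⟩ : IsCoprime r (π ^ n) := ((hπ.coprime_iff_not_dvd.2 hr).symm).pow_right
    refine hQ ?_
    have h1 := h _ ⟨a * π ^ (n - 1 - i), rfl⟩
    rw [hev, hev, aeval_comm, S.swap, (hSA.aeval _).adj, ← Module.End.mul_apply, ← map_mul,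
      ← S.swap] at h1
    have hpow : π ^ (n - 1) = π ^ (n - 1 - i) * π ^ i := by rw [← pow_add]; congr 1; omega
    have h2 : π ^ (n - 1) = a * π ^ (n - 1 - i) * (π ^ i * r) + π ^ (n - 1) * b * π ^ n := by
      calc π ^ (n - 1) = π ^ (n - 1) * (a * r + b * π ^ n) := by rw [hab, mul_one]
        _ = _ := by rw [hpow]; ring
    rw [h2, map_add, LinearMap.add_apply, map_add, LinearMap.add_apply]
    have h3 : aeval s (π ^ (n - 1) * b * π ^ n) e = 0 := by
      rw [map_mul, Module.End.mul_apply, hkill e he, map_zero]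
    rw [h1, h3, map_zero, LinearMap.zero_apply, add_zero]
  obtain ⟨h1, h2, h3⟩ := cyclic_piece hg hiso hsC hne
  have hCW : C ≤ W := by
    rintro _ ⟨q, rfl⟩
    exact aeval_mem (fun x hx => inv_sumInv hgW hx) q e he
  refine ⟨_, sup_le hCW ?_, ne_bot_piece (x := e) ⟨1, by rw [hev, map_one]; rfl⟩ ?_, h1, h2, h3⟩
  · rintro _ ⟨x, hx, rfl⟩; exact hgW x (hCW hx)
  · rintro rfl; exact hQ (by rw [map_zero, map_zero, LinearMap.zero_apply])

theorem iso_span {ι : Type*} (v : ι → V) (h : ∀ i j, S.om (v i) (v j) = 0) :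
    S.Iso (Submodule.span F (Set.range v)) := by
  intro x hx y hy
  induction hx using Submodule.span_induction with
  | mem x hx =>
    obtain ⟨i, rfl⟩ := hx
    induction hy using Submodule.span_induction with
    | mem y hy => obtain ⟨j, rfl⟩ := hy; exact h i j
    | zero => rw [map_zero]
    | add a b _ _ ha hb => rw [map_add, ha, hb, add_zero]
    | smul c a _ ha => rw [map_smul, ha, smul_zero]
  | zero => rw [map_zero, LinearMap.zero_apply]
  | add a b _ _ ha hb => rw [map_add, LinearMap.add_apply, ha, hb, add_zero]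
  | smul c a _ ha => rw [map_smul, LinearMap.smul_apply, ha, smul_zero]

theorem span_range_mem {ι : Type*} {v : ι → V} {D : Module.End F V}
    (h : ∀ i, D (v i) ∈ Submodule.span F (Set.range v)) {x : V}
    (hx : x ∈ Submodule.span F (Set.range v)) : D x ∈ Submodule.span F (Set.range v) := by
  induction hx using Submodule.span_induction with
  | mem x hx => obtain ⟨i, rfl⟩ := hx; exact h i
  | zero => rw [map_zero]; exact zero_mem _
  | add a b _ _ ha hb => rw [map_add]; exact add_mem ha hb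
  | smul c a _ ha => rw [map_smul]; exact Submodule.smul_mem _ c ha

/-- Two chains whose members pair through `h`. -/
theorem double_piece {h : V ≃ₗ[F] V} (hh : S.Pres h) {W : Submodule F V} (hhW : Inv' h W)
    {n : ℕ} (hn : 1 ≤ n) {M : Module.End F V} (hM : SA S M)
    (hMs : ∀ x, sumInv h x = M x + (2 : F) • x) (hMc : ∀ x, h (M x) = M (h x))
    (hMW : ∀ x ∈ W, M x ∈ W) (hkill : ∀ x ∈ W, (M ^ n) x = 0)
    (hQ : ∀ x ∈ W, S.om ((M ^ (n - 1)) x) (h x) = 0) {e f : V} (he : e ∈ W) (hf : f ∈ W)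
    (h0 : S.om ((M ^ (n - 1)) e) f = 0) (h1 : S.om ((M ^ (n - 1)) e) (h f) ≠ 0) :
    ∃ P, P ≤ W ∧ P ≠ ⊥ ∧ S.ND P ∧ Inv' h P ∧ ∀ a : F, IsLU S h a P := by
  classical
  have hpowc : ∀ (k : ℕ) x, h ((M ^ k) x) = (M ^ k) (h x) := by
    intro k
    induction k with
    | zero => simp
    | succ k ih => intro x; rw [pow_succ, Module.End.mul_apply, ih, hMc, Module.End.mul_apply]
  -- make `f` orthogonal to the chain of `e`
  obtain ⟨a, ha⟩ := chain_solve (S := S) M (hkill e he) (f := h f)
    (fun k hk => by rw [show k = n - 1 by omega]; exact h1) fun i => S.om ((M ^ (i : ℕ)) e) f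
  set Y : Module.End F V := ∑ j, a j • M ^ (j : ℕ) with hY
  have hYadj : ∀ x y, S.om (Y x) y = S.om x (Y y) := fun x y => by
    simp [hY, LinearMap.sum_apply, map_sum, hM.pow_adj]
  have hYc : ∀ x, h (Y x) = Y (h x) := fun x => by
    simp [hY, LinearMap.sum_apply, map_sum, hpowc]
  have hYM : ∀ (i : ℕ) x, (M ^ i) (Y x) = Y ((M ^ i) x) := fun i x => by
    simp only [hY, LinearMap.sum_apply, map_sum, LinearMap.smul_apply, map_smul,
      ← Module.End.mul_apply, ← pow_add, add_comm]
  have hYe : Y e = ∑ j, a j • (M ^ (j : ℕ)) e := by simp [hY, LinearMap.sum_apply]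
  set f' := f - Y (h f) with hf'
  have hef : ∀ i, S.om ((M ^ i) e) f' = 0 := by
    intro i
    by_cases hi : i < n
    · rw [hf', map_sub, ← hYadj, ← hYM, hYe, ha ⟨i, hi⟩, sub_self]
    · obtain ⟨k, rfl⟩ := Nat.exists_eq_add_of_le (Nat.le_of_not_lt hi)
      rw [add_comm, pow_add, Module.End.mul_apply, hkill e he, map_zero, map_zero,
        LinearMap.zero_apply]
  have ha0 : a ⟨0, hn⟩ = 0 := by
    have := ha ⟨n - 1, by omega⟩
    rw [h0, map_sum, map_sum, LinearMap.sum_apply, Finset.sum_eq_single ⟨0, hn⟩] at this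
    · simp only [pow_zero, Module.End.one_apply, map_smul, LinearMap.smul_apply, smul_eq_mul] at this
      exact (mul_eq_zero.1 this).resolve_right h1
    · intro j _ hj
      have hj0 : (j : ℕ) ≠ 0 := fun h => hj (Fin.ext h)
      obtain ⟨k, hk⟩ : ∃ k, n - 1 + j = k + n := ⟨n - 1 + j - n, by omega⟩
      rw [map_smul, ← Module.End.mul_apply, ← pow_add]
      simp only [hk, pow_add, Module.End.mul_apply, hkill e he, map_zero, smul_zero,
        LinearMap.zero_apply]
    · intro h; exact absurd (Finset.mem_univ _) h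
  have hYp : Y ((M ^ (n - 1)) e) = 0 := by
    simp only [hY, LinearMap.sum_apply, LinearMap.smul_apply]
    refine Finset.sum_eq_zero fun j _ => ?_
    by_cases hj0 : (j : ℕ) = 0
    · rw [show j = ⟨0, hn⟩ from Fin.ext hj0, ha0, zero_smul]
    · obtain ⟨k, hk⟩ : ∃ k, (j : ℕ) + (n - 1) = k + n := ⟨(j : ℕ) + (n - 1) - n, by omega⟩
      rw [← Module.End.mul_apply, ← pow_add, hk, pow_add, Module.End.mul_apply, hkill e he,
        map_zero, smul_zero]
  have hf'W : f' ∈ W := sub_mem hf (by
    simp only [hY, LinearMap.sum_apply]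
    exact sum_mem fun j _ => W.smul_mem _ (pow_mem' hMW _ _ (hhW f hf)))
  set b := S.om ((M ^ (n - 1)) e) (h f) with hb
  have hb' : S.om ((M ^ (n - 1)) e) (h f') = b := by
    rw [hf', map_sub, map_sub, hYc, ← hYadj, hYp, map_zero, LinearMap.zero_apply, sub_zero]
  have hb'' : S.om ((M ^ (n - 1)) f') (h e) = -b := by
    have := hQ (e + f') (add_mem he hf'W)
    simp only [map_add, LinearMap.add_apply, hQ e he, hQ f' hf'W, hb'] at this
    linear_combination this
  let v : Fin n ⊕ Fin n → V :=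
    Sum.elim (fun j => (M ^ (j : ℕ)) e) fun j => (M ^ (j : ℕ)) f'
  set C := Submodule.span F (Set.range v) with hC
  have hiso : S.Iso C := iso_span v fun i j => by
    rcases i with i | i <;> rcases j with j | j
    · show S.om ((M ^ (i : ℕ)) e) ((M ^ (j : ℕ)) e) = 0
      rw [← hM.pow_adj, ← Module.End.mul_apply, ← pow_add, hM.pow_alt]
    · show S.om ((M ^ (i : ℕ)) e) ((M ^ (j : ℕ)) f') = 0
      rw [← hM.pow_adj, ← Module.End.mul_apply, ← pow_add, hef]
    · show S.om ((M ^ (i : ℕ)) f') ((M ^ (j : ℕ)) e) = 0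
      rw [S.swap, ← hM.pow_adj, ← Module.End.mul_apply, ← pow_add, hef, neg_zero]
    · show S.om ((M ^ (i : ℕ)) f') ((M ^ (j : ℕ)) f') = 0
      rw [← hM.pow_adj, ← Module.End.mul_apply, ← pow_add, hM.pow_alt]
  have hCW : C ≤ W := Submodule.span_le.2 (by
    rintro _ ⟨i | i, rfl⟩
    · exact pow_mem' hMW _ _ he
    · exact pow_mem' hMW _ _ hf'W)
  have hMC : ∀ x ∈ C, M x ∈ C := fun x hx => span_range_mem (fun i => by
    rcases i with i | i
    · show M ((M ^ (i : ℕ)) e) ∈ _
      rw [← Module.End.mul_apply, ← pow_succ']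
      by_cases hi : (i : ℕ) + 1 < n
      · exact Submodule.subset_span ⟨Sum.inl ⟨_, hi⟩, rfl⟩
      · rw [show (i : ℕ) + 1 = n by omega, hkill e he]; exact zero_mem _
    · show M ((M ^ (i : ℕ)) f') ∈ _
      rw [← Module.End.mul_apply, ← pow_succ']
      by_cases hi : (i : ℕ) + 1 < n
      · exact Submodule.subset_span ⟨Sum.inr ⟨_, hi⟩, rfl⟩
      · rw [show (i : ℕ) + 1 = n by omega, hkill f' hf'W]; exact zero_mem _) hx
  have hne : ∀ x ∈ C, (∀ y ∈ C, S.om x (h y) = 0) → x = 0 := by
    intro x hx hx0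
    obtain ⟨c, rfl⟩ := (Submodule.mem_span_range_iff_exists_fun F).1 hx
    suffices ∀ (i : ℕ) (hi : i < n), c (Sum.inl ⟨i, hi⟩) = 0 ∧ c (Sum.inr ⟨i, hi⟩) = 0 by
      refine Finset.sum_eq_zero fun i _ => ?_
      rcases i with ⟨i, hi⟩ | ⟨i, hi⟩
      · rw [(this i hi).1, zero_smul]
      · rw [(this i hi).2, zero_smul]
    intro i
    induction i using Nat.strong_induction_on with
    | _ i ih =>
      intro hi
      have key : (M ^ (n - 1 - i)) (∑ k, c k • v k) =
          c (Sum.inl ⟨i, hi⟩) • (M ^ (n - 1)) e + c (Sum.inr ⟨i, hi⟩) • (M ^ (n - 1)) f' := by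
        rw [Fintype.sum_sum_type, map_add, map_sum, map_sum]
        congr 1 <;>
        · rw [Finset.sum_eq_single ⟨i, hi⟩]
          · simp only [v, Sum.elim_inl, Sum.elim_inr, map_smul, ← Module.End.mul_apply, ← pow_add]
            rw [show n - 1 - i + i = n - 1 by omega]
          · intro j _ hj
            simp only [v, Sum.elim_inl, Sum.elim_inr, map_smul, ← Module.End.mul_apply, ← pow_add]
            rcases lt_trichotomy (j : ℕ) i with hji | hji | hji
            · first
              | rw [(ih j hji j.2).1, zero_smul]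
              | rw [(ih j hji j.2).2, zero_smul]
            · exact absurd (Fin.ext hji) hj
            · obtain ⟨k, hk⟩ : ∃ k, n - 1 - i + j = k + n := ⟨n - 1 - i + j - n, by omega⟩
              rw [hk, pow_add, Module.End.mul_apply]
              first
              | rw [hkill e he, map_zero, smul_zero]
              | rw [hkill f' hf'W, map_zero, smul_zero]
          · intro h; exact absurd (Finset.mem_univ _) h
      have test : ∀ y ∈ ({e, f'} : Set V), S.om ((M ^ (n - 1 - i)) (∑ k, c k • v k)) (h y) = 0 := by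
        intro y hy
        rw [hM.pow_adj, ← hpowc]
        refine hx0 _ (pow_mem' hMC _ _ ?_)
        rcases hy with rfl | rfl
        · exact Submodule.subset_span ⟨Sum.inl ⟨0, hn⟩, by simp [v]⟩
        · exact Submodule.subset_span ⟨Sum.inr ⟨0, hn⟩, by simp [v]⟩
      have t1 := test e (Or.inl rfl)
      have t2 := test f' (Or.inr rfl)
      rw [key] at t1 t2
      simp only [map_add, map_smul, LinearMap.add_apply, LinearMap.smul_apply, smul_eq_mul,
        hQ e he, hQ f' hf'W, hb', hb'', mul_zero, zero_add, add_zero, mul_neg, neg_eq_zero,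
        mul_eq_zero, h1, or_false] at t1 t2
      exact ⟨t2, t1⟩
  obtain ⟨k1, k2, k3⟩ := cyclic_piece hh hiso (fun x hx => by
    rw [hMs]; exact add_mem (hMC x hx) (C.smul_mem _ hx)) hne
  refine ⟨_, sup_le hCW ?_, ne_bot_piece (x := e) ?_ ?_, k1, k2, k3⟩
  · rintro _ ⟨x, hx, rfl⟩; exact hhW x (hCW hx)
  · exact Submodule.subset_span ⟨Sum.inl ⟨0, hn⟩, by simp [v]⟩
  · rintro rfl; exact h1 (by rw [hb, map_zero, map_zero, LinearMap.zero_apply])

end H31.SPC
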