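import Mathlib

/-!
Commutator witnesses in `Sp(4,3)` for `R ⊕ -1`, `R ∈ SL(2,3)`.
-/

set_option autoImplicit false
set_option linter.style.haveILetI false

open Matrix

namespace H31.SPC

/-- Position of a coordinate. -/
def idx4 : Fin 2 ⊕ Fin 2 → ℕ := Sum.elim (fun i => i) (fun i => i + 2)

/-- A matrix from its list of entries. -/
def mat4 (l : List ℕ) : Matrix (Fin 2 ⊕ Fin 2) (Fin 2 ⊕ Fin 2) (ZMod 3) :=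
  Matrix.of fun i j => (l.getD (4 * idx4 i + idx4 j) 0 : ℕ)

/-- The block sum of `[[p, q], [r, s]]` and `-1`. -/
def blockNeg {K : Type*} [Ring K] (p q r s : K) : Matrix (Fin 2 ⊕ Fin 2) (Fin 2 ⊕ Fin 2) K :=
  Matrix.fromBlocks !![p, 0; 0, -1] !![q, 0; 0, 0] !![r, 0; 0, 0] !![s, 0; 0, -1]

/-- The table. -/
def sp43Wit : ℕ × ℕ × ℕ × ℕ → List ℕ × List ℕ
  | (0, 1, 2, 0) =>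
    ([2,1,2,2,1,1,0,1,1,2,2,0,0,0,2,2],
     [2,1,0,0,2,1,2,2,2,0,2,0,1,0,1,1])
  | (0, 1, 2, 1) =>
    ([2,1,1,0,2,1,0,2,0,2,1,2,1,0,1,2],
     [1,1,2,2,2,0,0,1,2,0,0,2,0,1,1,1])
  | (0, 1, 2, 2) =>
    ([2,0,0,2,2,0,0,1,2,2,1,2,2,1,1,1],
     [0,1,2,2,1,0,2,2,1,1,1,2,2,1,1,0])
  | (0, 2, 1, 0) =>
    ([2,0,2,0,0,2,0,1,0,0,2,0,0,1,0,1],
     [2,0,0,0,0,1,0,1,2,0,2,0,0,1,0,2])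
  | (0, 2, 1, 1) =>
    ([2,1,2,0,0,2,1,1,2,0,2,1,2,0,2,0],
     [1,1,2,0,1,1,0,2,2,1,1,1,2,0,1,0])
  | (0, 2, 1, 2) =>
    ([0,2,2,1,1,0,2,1,2,0,1,1,2,1,0,1],
     [0,2,0,1,2,1,0,2,1,1,2,1,2,2,2,1])
  | (1, 0, 0, 1) =>
    ([2,0,2,0,0,2,0,1,0,0,2,0,0,1,0,1],
     [1,0,0,0,0,0,0,1,0,0,1,0,0,2,0,0])
  | (1, 0, 1, 1) =>
    ([2,1,0,2,1,1,1,0,1,2,1,0,1,1,0,2],
     [2,2,1,1,1,0,2,0,2,2,1,0,0,0,1,2])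
  | (1, 0, 2, 1) =>
    ([1,0,0,0,1,0,0,2,2,2,1,1,2,1,0,0],
     [1,0,0,0,2,1,0,1,0,1,1,2,0,1,0,2])
  | (1, 1, 0, 1) =>
    ([2,0,0,2,1,0,0,0,1,1,0,2,0,1,1,1],
     [1,2,1,2,2,2,2,2,1,1,0,2,0,2,1,0])
  | (1, 1, 1, 2) =>
    ([1,1,2,2,1,2,0,0,2,2,0,0,0,0,2,1],
     [1,1,0,0,0,0,1,2,1,1,2,2,1,2,0,0])
  | (1, 1, 2, 0) =>
    ([2,0,0,2,2,0,0,1,2,2,1,2,2,1,1,1],
     [2,1,1,1,0,0,2,2,1,2,1,2,0,1,0,1])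
  | (1, 2, 0, 1) =>
    ([2,0,0,2,2,0,0,1,2,2,1,2,2,1,1,1],
     [1,2,2,0,0,0,1,1,0,0,1,0,0,2,0,0])
  | (1, 2, 1, 0) =>
    ([2,1,1,0,2,1,0,2,0,2,1,2,1,0,1,2],
     [1,1,1,2,2,1,2,2,2,0,1,2,0,1,1,1])
  | (1, 2, 2, 2) =>
    ([0,0,0,2,1,0,1,0,2,1,2,0,2,0,0,1],
     [1,0,2,1,0,0,0,1,0,0,1,1,1,2,1,1])
  | (2, 0, 0, 2) =>
    ([0,0,0,2,1,0,1,0,2,1,2,0,2,0,0,1],
     [1,1,0,0,0,2,0,0,0,2,1,0,1,0,1,2])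
  | (2, 0, 1, 2) =>
    ([0,0,0,2,1,0,1,0,2,1,2,0,2,0,0,1],
     [2,0,2,1,2,0,2,2,2,1,0,2,0,2,1,2])
  | (2, 0, 2, 2) =>
    ([0,0,0,2,1,0,1,0,2,1,2,0,2,0,0,1],
     [1,1,0,0,1,0,0,0,2,2,0,1,1,0,1,2])
  | (2, 1, 0, 2) =>
    ([2,1,1,0,2,1,0,2,0,2,1,2,1,0,1,2],
     [1,2,0,2,2,2,0,2,2,0,2,1,2,1,1,2])
  | (2, 1, 1, 1) =>
    ([2,0,2,0,0,2,0,1,0,0,2,0,0,1,0,1],
     [0,0,1,0,0,0,0,2,2,0,2,0,0,1,0,0])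
  | (2, 1, 2, 0) =>
    ([1,1,2,2,2,0,1,0,1,1,2,0,2,0,0,1],
     [0,2,1,0,0,2,0,0,2,2,2,0,1,2,2,2])
  | (2, 2, 0, 2) =>
    ([2,0,0,2,2,0,0,1,2,2,1,2,2,1,1,1],
     [2,1,1,2,0,1,1,0,0,2,1,0,1,2,0,2])
  | (2, 2, 1, 0) =>
    ([2,2,0,1,0,1,2,0,1,0,0,2,1,1,2,0],
     [2,2,2,1,0,2,0,1,1,2,0,1,1,1,2,1])
  | (2, 2, 2, 1) =>
    ([2,1,2,2,0,2,0,1,0,2,2,1,2,2,1,0],
     [0,1,0,2,2,0,1,0,1,1,2,0,1,2,1,1])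
  | _ => ([], [])

theorem sp43Wit_spec : ∀ p q r s : ZMod 3, p * s - q * r = 1 →
    let A := mat4 (sp43Wit (p.val, q.val, r.val, s.val)).1
    let B := mat4 (sp43Wit (p.val, q.val, r.val, s.val)).2
    Aᵀ * J (Fin 2) (ZMod 3) * A = J (Fin 2) (ZMod 3) ∧
      Bᵀ * J (Fin 2) (ZMod 3) * B = J (Fin 2) (ZMod 3) ∧
      A * B = blockNeg p q r s * B * A := by
  decide +kernel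

end H31.SPC
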