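import Cfsg.Agent.H31.SpComm.Structure
import Cfsg.Agent.H31.SpComm.Sp43

/-!
Every element of `Sp(2m,q)` is a commutator, small exceptions aside.
-/

set_option autoImplicit false
set_option linter.style.haveILetI false
set_option linter.unusedSectionVars false

open Matrix

namespace H31.SPC

universe u v

variable {F : Type u} [Field F] {V : Type v} [AddCommGroup V] [Module F V] [FiniteDimensional F V]
variable {S : Frm F V} {g : V ≃ₗ[F] V}

variable [Fintype F]

theorem exists_matrix_comm (h3 : Fintype.card F = 3) {p q r s : F} (hdet : p * s - q * r = 1)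
    (G : symplecticGroup (Fin 2) F) (hG : G.val = blockNeg p q r s) :
    ∃ A B : symplecticGroup (Fin 2) F, G = A * B * A⁻¹ * B⁻¹ := by
  let φ : ZMod 3 ≃+* F := ZMod.ringEquivOfPrime F Nat.prime_three h3
  obtain ⟨hA, hB, hAB⟩ := sp43Wit_spec (φ.symm p) (φ.symm q) (φ.symm r) (φ.symm s)
    (φ.injective (by simpa using hdet))
  set A := mat4 (sp43Wit ((φ.symm p).val, (φ.symm q).val, (φ.symm r).val, (φ.symm s).val)).1
  set B := mat4 (sp43Wit ((φ.symm p).val, (φ.symm q).val, (φ.symm r).val, (φ.symm s).val)).2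
  let ψ := φ.toRingHom.mapMatrix (m := Fin 2 ⊕ Fin 2)
  have hJ : ψ (J (Fin 2) (ZMod 3)) = J (Fin 2) F := by
    ext i j
    rcases i with i | i <;> rcases j with j | j <;> simp [ψ, J, Matrix.one_apply, apply_ite φ]
  have hT : ∀ M, ψ Mᵀ = (ψ M)ᵀ := fun M => rfl
  have mem : ∀ M, Mᵀ * J (Fin 2) (ZMod 3) * M = J (Fin 2) (ZMod 3) →
      ψ M ∈ symplecticGroup (Fin 2) F := fun M hM => by
    rw [SymplecticGroup.mem_iff', ← hT, ← hJ, ← map_mul, ← map_mul, hM]
  have hblock : ψ (blockNeg (φ.symm p) (φ.symm q) (φ.symm r) (φ.symm s)) = G.val := by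
    rw [hG]
    ext i j
    rcases i with i | i <;> rcases j with j | j <;> fin_cases i <;> fin_cases j <;>
      simp [ψ, blockNeg]
  refine ⟨⟨ψ A, mem A hA⟩, ⟨ψ B, mem B hB⟩, ?_⟩
  rw [eq_mul_inv_iff_mul_eq, eq_mul_inv_iff_mul_eq]
  apply Subtype.ext
  simp only [Submonoid.coe_mul]
  rw [← hblock, ← map_mul, ← map_mul, ← map_mul, hAB]

theorem comm_dim_four_three (hg : S.Pres g) {A B : Submodule F V} (hnA : S.ND A) (hiA : Inv' g A)
    (hA : IsLU S g 1 A) (hdA : Module.finrank F A = 2) (hB : Twist S g B)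
    (hdB : Module.finrank F B = 2) (ho : S.Orth A B) (h3 : Fintype.card F = 3) :
    Comm S g (A ⊔ B) := by
  obtain ⟨m, eA, fA, hm, HA, -⟩ := hA.exists_hyp hnA
  obtain rfl : m = 1 := by omega
  obtain ⟨m', eB, fB, hm', HB, -⟩ := hB.lu.exists_hyp hB.nd
  obtain rfl : m' = 1 := by omega
  let e : Fin 2 → V := ![eA 0, eB 0]
  let f : Fin 2 → V := ![fA 0, fB 0]
  have o1 := ho _ (HA.memE 0) _ (HB.memE 0)
  have o2 := ho _ (HA.memE 0) _ (HB.memF 0)
  have o3 := ho _ (HA.memF 0) _ (HB.memE 0)
  have o4 := ho _ (HA.memF 0) _ (HB.memF 0)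
  have o1' := ho.symm _ (HB.memE 0) _ (HA.memE 0)
  have o2' := ho.symm _ (HB.memF 0) _ (HA.memE 0)
  have o3' := ho.symm _ (HB.memE 0) _ (HA.memF 0)
  have o4' := ho.symm _ (HB.memF 0) _ (HA.memF 0)
  have H : Hyp S (A ⊔ B) e f :=
    { memE := fun i => by
        fin_cases i
        · exact Submodule.mem_sup_left (HA.memE 0)
        · exact Submodule.mem_sup_right (HB.memE 0)
      memF := fun i => by
        fin_cases i
        · exact Submodule.mem_sup_left (HA.memF 0)
        · exact Submodule.mem_sup_right (HB.memF 0)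
      ee := fun i j => by fin_cases i <;> fin_cases j <;> simp [e, S.self, o1, o1']
      ff := fun i j => by fin_cases i <;> fin_cases j <;> simp [f, S.self, o4, o4']
      ef := fun i j => by
        fin_cases i <;> fin_cases j <;> simp [e, f, HA.ef, HB.ef, o2, o3']
      span := fun x hx h1 h2 => by
        obtain ⟨a, ha, b, hb, rfl⟩ := Submodule.mem_sup.1 hx
        have a0 : a = 0 := HA.span a ha
          (fun i => by
            rw [Subsingleton.elim i 0]
            have := h1 0
            simpa [e, ho.symm b hb _ (HA.memE 0)] using this)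
          (fun i => by
            rw [Subsingleton.elim i 0]
            have := h2 0
            simpa [f, ho.symm b hb _ (HA.memF 0)] using this)
        have b0 : b = 0 := HB.span b hb
          (fun i => by
            rw [Subsingleton.elim i 0]
            have := h1 1
            simpa [e, ho a ha _ (HB.memE 0)] using this)
          (fun i => by
            rw [Subsingleton.elim i 0]
            have := h2 1
            simpa [f, ho a ha _ (HB.memF 0)] using this)
        rw [a0, b0, add_zero] }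
  obtain ⟨G, hG, -⟩ := H.exists_matrix hg (Inv'.sup g hiA hB.inv)
  have hentry : ∀ k l, G.val k l = coord S e f (g (Sum.elim e f l)) k := by
    intro k l
    have h1 : comb e f (Pi.single l (1 : F)) = Sum.elim e f l := by
      simp [comb, Fintype.linearCombination_apply, Pi.single_apply]
    rw [← h1, hG, H.coord_comb]
    simp
  have hgB := hB.small hdB
  have n1 := ho.symm _ (neg_mem (HB.memE 0))
  have n2 := ho.symm _ (neg_mem (HB.memF 0))
  have q1 := ho _ (hiA _ (HA.memE 0))
  have q2 := ho _ (hiA _ (HA.memF 0))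
  set p := G.val (Sum.inl 0) (Sum.inl 0) with hp
  set q := G.val (Sum.inl 0) (Sum.inr 0) with hq
  set r := G.val (Sum.inr 0) (Sum.inl 0) with hr
  set s := G.val (Sum.inr 0) (Sum.inr 0) with hs
  have hblock : G.val = blockNeg p q r s := by
    ext i j
    rcases i with i | i <;> rcases j with j | j <;> fin_cases i <;> fin_cases j <;>
      first
      | rfl
      | (rw [hentry]
         simp [blockNeg, e, f, coord_inl, coord_inr, hgB _ (HB.memE 0), hgB _ (HB.memF 0),
           o1', o2', o3', o4', S.self, HB.ef, HB.fe, q1 _ (HB.memE 0), q1 _ (HB.memF 0),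
           q2 _ (HB.memE 0), q2 _ (HB.memF 0)])
  have hdet : p * s - q * r = 1 := by
    have h := congrFun (congrFun (SymplecticGroup.mem_iff'.1 G.2) (Sum.inl 0)) (Sum.inr 0)
    rw [hblock] at h
    simp [blockNeg, Matrix.mul_apply, J, Matrix.one_apply] at h
    linear_combination -h
  obtain ⟨X, Y, hXY⟩ := exists_matrix_comm h3 hdet G hblock
  exact H.comm_of_matrix hXY hG

theorem id_or_lu_neg (hg : S.Pres g) (h3 : Fintype.card F = 3) {A : Submodule F V} (hnA : S.ND A)
    (hiA : Inv' g A) (hdA : Module.finrank F A = 2) :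
    (∀ x ∈ A, g x = x) ∨ IsLU S g (-1) A := by
  refine or_iff_not_imp_left.2 fun hid => ?_
  push Not at hid
  obtain ⟨v, hv, hgv⟩ := hid
  have hv0 : v ≠ 0 := fun h => hgv (by rw [h, map_zero])
  refine isLU_of_lagrangian g hnA (L := Submodule.span F {v})
    ((Submodule.span_singleton_le_iff_mem _ _).2 hv) ?_
    (by rw [finrank_span_singleton hv0, hdA]) hiA ?_ ?_
  · intro x hx y hy
    obtain ⟨a, rfl⟩ := Submodule.mem_span_singleton.1 hx
    obtain ⟨b, rfl⟩ := Submodule.mem_span_singleton.1 hy
    simp [S.self]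
  · intro x hx y hy
    obtain ⟨a, rfl⟩ := Submodule.mem_span_singleton.1 hx
    obtain ⟨b, rfl⟩ := Submodule.mem_span_singleton.1 hy
    simp [S.self, map_smul, S.swap (g v) v]
  · intro x hx hmem
    obtain ⟨a, rfl⟩ := Submodule.mem_span_singleton.1 hx
    by_cases ha : a = 0
    · simp [ha]
    obtain ⟨c, hc⟩ := Submodule.mem_span_singleton.1 hmem
    have hgc : g v = (c / a - 1) • v := by
      rw [map_smul, neg_one_smul, sub_neg_eq_add, ← smul_add] at hc
      rw [sub_smul, one_smul, div_eq_inv_mul, mul_smul, hc, inv_smul_smul₀ ha]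
      abel
    have hd0 : c / a - 1 ≠ 0 := fun h => hv0 (by
      rw [h, zero_smul] at hgc
      exact g.map_eq_zero_iff.1 hgc)
    have hd1 : c / a - 1 ≠ 1 := fun h => hgv (by rw [hgc, h, one_smul])
    have hd : c / a - 1 = -1 := by
      have := FiniteField.pow_card_sub_one_eq_one _ hd0
      rw [h3] at this
      exact (mul_self_eq_one_iff.1 (by rw [← pow_two]; exact this)).resolve_left hd1
    rw [map_smul, hgc, hd, neg_one_smul, neg_one_smul, smul_neg, sub_neg_eq_add, neg_add_cancel]

theorem comm_or_small (hg : S.Pres g) {W : Submodule F V} (hG : Good S g W) :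
    S.ND W → Inv' g W → Comm S g W ∨ (IsLU S g 1 W ∧
      ((Module.finrank F W = 2 ∧ Fintype.card F < 4) ∨
        (Module.finrank F W = 4 ∧ Fintype.card F < 3))) := by
  have lu_case : ∀ W, IsLU S g 1 W → S.ND W → Inv' g W → Comm S g W ∨ (IsLU S g 1 W ∧
      ((Module.finrank F W = 2 ∧ Fintype.card F < 4) ∨
        (Module.finrank F W = 4 ∧ Fintype.card F < 3))) := by
    intro W h hn hi
    by_cases hs : (Module.finrank F W = 2 ∧ Fintype.card F < 4) ∨
        (Module.finrank F W = 4 ∧ Fintype.card F < 3)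
    · exact Or.inr ⟨h, hs⟩
    · push Not at hs
      exact Or.inl (comm_of_lu_one hg hi hn h hs.1 hs.2)
  induction hG with
  | lu h => exact lu_case _ h
  | @tw A B _ hB hnA hiA ho ih =>
    intro hn hi
    rcases ih hnA hiA with hA | ⟨hA, hsmall⟩
    · exact Or.inl (hA.sup hB.comm hnA hB.nd ho)
    have hcard : Fintype.card F < 4 := by
      rcases hsmall with h | h <;> omega
    have h2 : 2 ≤ Fintype.card F := Fintype.one_lt_card
    obtain h | h : Fintype.card F = 2 ∨ Fintype.card F = 3 := by omega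
    · have hneg : (-1 : F) = 1 := by
        have hc := FiniteField.cast_card_eq_zero F
        rw [h, Nat.cast_ofNat] at hc
        linear_combination -hc
      exact lu_case _ (hA.sup (hneg ▸ hB.lu) hnA ho) hn hi
    · have hdA : Module.finrank F A = 2 := by
        rcases hsmall with h' | h' <;> omega
      obtain ⟨t, ht⟩ := hB.dim
      rcases Nat.eq_zero_or_pos t with rfl | ht0
      · exact Or.inl (comm_dim_four_three hg hnA hiA hA hdA hB (by omega) ho h)
      rcases id_or_lu_neg hg h hnA hiA hdA with hid | hlu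
      · exact Or.inl ((comm_of_id hid).sup hB.comm hnA hB.nd ho)
      · refine Or.inl (comm_of_lu_neg hg hi hn (hlu.sup hB.lu hnA ho) (by omega) (by rw [h]; decide)
          (d := t + 1) (by omega) ?_)
        rw [ho.finrank_sup hnA]
        omega

/-- The standard form. -/
noncomputable def stdFrm (m : ℕ) : Frm F (Fin m ⊕ Fin m → F) where
  om := Matrix.toLinearMap₂' F (J (Fin m) F)
  self := fun x => by
    rw [Matrix.toLinearMap₂'_apply', dotProduct, Fintype.sum_sum_type]
    simp [J, Matrix.mulVec, dotProduct, Matrix.one_apply, Finset.sum_neg_distrib, mul_comm]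
  sep := fun x hx => by
    funext k
    rcases k with k | k
    · have := hx (Pi.single (Sum.inr k) 1)
      simpa [Matrix.toLinearMap₂'_apply', dotProduct, Fintype.sum_sum_type, J, Matrix.one_apply]
        using this
    · have := hx (Pi.single (Sum.inl k) 1)
      simpa [Matrix.toLinearMap₂'_apply', dotProduct, Fintype.sum_sum_type, J, Matrix.one_apply]
        using this

theorem symplectic_comm (m : ℕ) (h1 : m = 1 → 4 ≤ Fintype.card F)
    (h2 : m = 2 → 3 ≤ Fintype.card F) (g : symplecticGroup (Fin m) F) :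
    ∃ a b : symplecticGroup (Fin m) F, g = a * b * a⁻¹ * b⁻¹ := by
  let S : Frm F (Fin m ⊕ Fin m → F) := stdFrm m
  have hom : ∀ x y, S.om x y = x ⬝ᵥ (J (Fin m) F *ᵥ y) := fun x y =>
    Matrix.toLinearMap₂'_apply' _ x y
  have hunit : ∀ M : symplecticGroup (Fin m) F, ∀ x, (M⁻¹).val *ᵥ (M.val *ᵥ x) = x := fun M x => by
    rw [mulVec_mulVec, ← Submonoid.coe_mul, inv_mul_cancel, Submonoid.coe_one, one_mulVec]
  let toEquiv : symplecticGroup (Fin m) F → ((Fin m ⊕ Fin m → F) ≃ₗ[F] (Fin m ⊕ Fin m → F)) :=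
    fun M => LinearEquiv.ofLinearMap M.val.mulVecLin (M⁻¹).val.mulVecLin
      (LinearMap.ext fun x => by simpa using hunit M⁻¹ x) (LinearMap.ext fun x => by simpa using hunit M x)
  have hpres : S.Pres (toEquiv g) := fun x y => by
    show S.om (g.val *ᵥ x) (g.val *ᵥ y) = _
    rw [hom, hom]
    conv_rhs => rw [← SymplecticGroup.mem_iff'.1 g.2]
    rw [← mulVec_mulVec, ← mulVec_mulVec, dotProduct_mulVec x g.valᵀ, vecMul_transpose]
  have hinv : Inv' (toEquiv g) ⊤ := fun _ _ => trivial
  have hgood := good_of_inv hpres ⊤ S.nd_top hinv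
  have hdim : Module.finrank F (⊤ : Submodule F (Fin m ⊕ Fin m → F)) = 2 * m := by
    rw [finrank_top, Module.finrank_pi, Fintype.card_sum, Fintype.card_fin]; ring
  obtain ⟨a, b, pa, pb, -, hab⟩ : Comm S (toEquiv g) ⊤ :=
    (comm_or_small hpres hgood S.nd_top hinv).resolve_right (by
      rintro ⟨-, ⟨h, h'⟩ | ⟨h, h'⟩⟩
      · have := h1 (by omega); omega
      · have := h2 (by omega); omega)
  have back : ∀ c : (Fin m ⊕ Fin m → F) ≃ₗ[F] (Fin m ⊕ Fin m → F), S.Pres c →
      ∃ M : symplecticGroup (Fin m) F, ∀ x, M.val *ᵥ x = c x := by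
    intro c hc
    have hM : ∀ x, LinearMap.toMatrix' c.toLinearMap *ᵥ x = c x := fun x => by
      rw [← Matrix.toLin'_apply, Matrix.toLin'_toMatrix']; rfl
    refine ⟨⟨LinearMap.toMatrix' c.toLinearMap, ?_⟩, hM⟩
    rw [SymplecticGroup.mem_iff']
    ext i j
    have h := hc (Pi.single i (1 : F)) (Pi.single j (1 : F))
    rw [hom, hom, ← hM, ← hM, dotProduct_mulVec, dotProduct_mulVec, vecMul_mulVec] at h
    simpa [dotProduct, mulVec_single, vecMul, Matrix.mul_apply, Pi.single_apply] using h
  obtain ⟨A, hA⟩ := back a pa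
  obtain ⟨B, hB⟩ := back b pb
  refine ⟨A, B, ?_⟩
  rw [eq_mul_inv_iff_mul_eq, eq_mul_inv_iff_mul_eq]
  refine Subtype.ext (Matrix.ext_of_mulVec_single fun i => ?_)
  simp only [Submonoid.coe_mul, ← mulVec_mulVec, hA, hB]
  have := hab (b (a (Pi.single i (1 : F)))) trivial
  rw [LinearEquiv.symm_apply_apply, LinearEquiv.symm_apply_apply] at this
  exact this.symm

end H31.SPC
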