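import Cfsg.Agent.H31.SpComm.Cyclic

/-!
Pairs of odd Jordan blocks of a unipotent isometry.
-/

set_option autoImplicit false
set_option linter.style.haveILetI false
set_option linter.unusedSectionVars false

open Polynomial

namespace H31.SPC

universe u v

variable {F : Type u} [Field F] {V : Type v} [AddCommGroup V] [Module F V] [FiniteDimensional F V]
variable {S : Frm F V}

/-- `h - 1`. -/
def nil (h : V ≃ₗ[F] V) : Module.End F V := h.toLinearMap - 1

/-- `h + h⁻¹ - 2`. -/
def mid (h : V ≃ₗ[F] V) : Module.End F V := sumInv h - (2 : F) • 1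

theorem nil_apply (h : V ≃ₗ[F] V) (x : V) : nil h x = h x - x := rfl

theorem mid_apply (h : V ≃ₗ[F] V) (x : V) : mid h x = h x + h.symm x - (2 : F) • x := rfl

theorem sumInv_eq_mid (h : V ≃ₗ[F] V) (x : V) : sumInv h x = mid h x + (2 : F) • x := by
  rw [mid_apply, sumInv_apply, sub_add_cancel]

theorem sa_mid {h : V ≃ₗ[F] V} (hh : S.Pres h) : SA S (mid h) := by
  have := sa_sumInv (S := S) hh
  exact ⟨fun x y => by simp [mid, this.adj], fun x => by simp [mid, this.alt, S.self]⟩

theorem mid_comm (h : V ≃ₗ[F] V) (x : V) : h (mid h x) = mid h (h x) := by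
  simp [mid_apply]

theorem nil_comm (h : V ≃ₗ[F] V) (k : ℕ) (x : V) : h ((nil h ^ k) x) = (nil h ^ k) (h x) := by
  induction k generalizing x with
  | zero => simp
  | succ k ih =>
    rw [pow_succ, Module.End.mul_apply, ih, Module.End.mul_apply]
    congr 1
    simp [nil_apply]

theorem nil_comm_symm (h : V ≃ₗ[F] V) (k : ℕ) (x : V) :
    h.symm ((nil h ^ k) x) = (nil h ^ k) (h.symm x) := by
  apply h.injective
  rw [LinearEquiv.apply_symm_apply, nil_comm, LinearEquiv.apply_symm_apply]

theorem mid_eq (h : V ≃ₗ[F] V) (x : V) : mid h x = nil h (nil h (h.symm x)) := by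
  simp [mid_apply, nil_apply]
  module

theorem nil_adj {h : V ≃ₗ[F] V} (hh : S.Pres h) : ∀ (k : ℕ) (x y : V),
    S.om ((nil h ^ k) x) y = S.om x ((nil h.symm ^ k) y) := by
  intro k
  induction k with
  | zero => simp
  | succ k ih =>
    intro x y
    rw [pow_succ, Module.End.mul_apply, ih, nil_apply, map_sub, LinearMap.sub_apply, hh.left,
      pow_succ', Module.End.mul_apply, nil_apply, map_sub]

theorem symm_of_nil_zero {h : V ≃ₗ[F] V} {x : V} (hx : nil h x = 0) : h.symm x = x := by
  rw [nil_apply, sub_eq_zero] at hx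
  exact h.symm_apply_eq.2 hx.symm

theorem mid_pow_eq (h : V ≃ₗ[F] V) (k : ℕ) (x : V) :
    (mid h ^ k) x = (nil h ^ (2 * k)) ((h.symm.toLinearMap ^ k) x) := by
  induction k generalizing x with
  | zero => simp
  | succ k ih =>
    rw [pow_succ', Module.End.mul_apply, ih, mid_eq, nil_comm_symm,
      show 2 * (k + 1) = 2 * k + 1 + 1 by ring, pow_succ' (nil h) (2 * k + 1),
      pow_succ' (nil h) (2 * k), Module.End.mul_apply, Module.End.mul_apply,
      pow_succ' h.symm.toLinearMap, Module.End.mul_apply]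
    rfl

/-- Hypotheses: on `W`, `N = h - 1` satisfies `N^(T+1) = 0` where `T = 2(n-1)`. -/
structure OddSetting (S : Frm F V) (h : V ≃ₗ[F] V) (W : Submodule F V) (n : ℕ) : Prop where
  pres : S.Pres h
  inv : Inv' h W
  nd : S.ND W
  pos : 1 ≤ n
  kill : ∀ x ∈ W, (nil h ^ (2 * (n - 1) + 1)) x = 0

/-- The span of two chains. -/
def pairSpan (h : V ≃ₗ[F] V) (T : ℕ) (e f : V) : Submodule F V :=
  Submodule.span F (Set.range (Sum.elim (fun j : Fin (T + 1) => (nil h ^ (j : ℕ)) e)
    fun j : Fin (T + 1) => (nil h ^ (j : ℕ)) f))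

namespace OddSetting

variable {h : V ≃ₗ[F] V} {W : Submodule F V} {n : ℕ} (H : OddSetting S h W n)

include H

theorem nil_mem {x : V} (hx : x ∈ W) : nil h x ∈ W := by
  rw [nil_apply]; exact sub_mem (H.inv x hx) hx

theorem mid_mem {x : V} (hx : x ∈ W) : mid h x ∈ W := by
  rw [mid_apply]; exact sub_mem (add_mem (H.inv x hx) (H.inv.symm_mem hx)) (W.smul_mem _ hx)

theorem kill_ge {x : V} (hx : x ∈ W) {k : ℕ} (hk : 2 * (n - 1) + 1 ≤ k) : (nil h ^ k) x = 0 := by
  obtain ⟨r, rfl⟩ := Nat.exists_eq_add_of_le hk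
  rw [add_comm, pow_add, Module.End.mul_apply, H.kill x hx, map_zero]

theorem symm_top {x : V} (hx : x ∈ W) :
    h.symm ((nil h ^ (2 * (n - 1))) x) = (nil h ^ (2 * (n - 1))) x :=
  symm_of_nil_zero (by rw [← Module.End.mul_apply, ← pow_succ', H.kill x hx])

theorem symm_pow_top {x : V} (hx : x ∈ W) (k : ℕ) :
    (nil h ^ (2 * (n - 1))) ((h.symm.toLinearMap ^ k) x) = (nil h ^ (2 * (n - 1))) x := by
  induction k generalizing x with
  | zero => simp
  | succ k ih =>
    rw [pow_succ, Module.End.mul_apply, LinearEquiv.coe_coe, ih (H.inv.symm_mem hx)]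
    rw [← nil_comm_symm, H.symm_top hx]

theorem top_eq {x : V} (hx : x ∈ W) :
    (mid h ^ (n - 1)) x = (nil h ^ (2 * (n - 1))) x := by
  rw [mid_pow_eq, H.symm_pow_top hx]

theorem symm_pow_mem {x : V} (hx : x ∈ W) (k : ℕ) : (h.symm.toLinearMap ^ k) x ∈ W := by
  induction k with
  | zero => simpa using hx
  | succ k ih => rw [pow_succ', Module.End.mul_apply]; exact H.inv.symm_mem ih

theorem mid_kill {x : V} (hx : x ∈ W) {k : ℕ} (hk : n ≤ k) : (mid h ^ k) x = 0 := by
  have := H.pos
  rw [mid_pow_eq, H.kill_ge (H.symm_pow_mem hx k) (by omega)]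

theorem nil_mid_kill {x : V} (hx : x ∈ W) {k : ℕ} (hk : n - 1 ≤ k) :
    nil h ((mid h ^ k) x) = 0 := by
  rw [mid_pow_eq, ← Module.End.mul_apply, ← pow_succ', H.kill_ge (H.symm_pow_mem hx k) (by omega)]

theorem self_top {x : V} (hx : x ∈ W) : S.om ((nil h ^ (2 * (n - 1))) x) x = 0 := by
  rw [← H.top_eq hx, (sa_mid H.pres).pow_alt]

theorem top_swap {x y : V} (hx : x ∈ W) (hy : y ∈ W) :
    S.om ((nil h ^ (2 * (n - 1))) y) x = -S.om ((nil h ^ (2 * (n - 1))) x) y := by
  rw [← H.top_eq hx, ← H.top_eq hy, (sa_mid H.pres).pow_adj, S.swap]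

theorem top_nil {x y : V} (hx : x ∈ W) :
    S.om ((nil h ^ (2 * (n - 1))) x) (nil h y) = 0 := by
  have h1 : nil h.symm ((nil h ^ (2 * (n - 1))) x) = 0 := by
    rw [nil_apply, H.symm_top hx, sub_self]
  have h2 := nil_adj (S := S) H.pres.symm 1 ((nil h ^ (2 * (n - 1))) x) y
  rw [pow_one, pow_one, h1, map_zero, LinearMap.zero_apply, LinearEquiv.symm_symm] at h2
  exact h2.symm

variable {e f : V} (he : e ∈ W) (hf : f ∈ W)

include he hf

theorem pair_le : pairSpan h (2 * (n - 1)) e f ≤ W :=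
  Submodule.span_le.2 (by
    rintro _ ⟨i | i, rfl⟩
    · exact pow_mem' (fun x hx => H.nil_mem hx) _ _ he
    · exact pow_mem' (fun x hx => H.nil_mem hx) _ _ hf)

theorem pair_inv : Inv' h (pairSpan h (2 * (n - 1)) e f) := by
  intro x hx
  rw [show h x = x + nil h x by rw [nil_apply]; abel]
  refine add_mem hx (span_range_mem (fun i => ?_) hx)
  rcases i with i | i
  · show nil h ((nil h ^ (i : ℕ)) e) ∈ _
    rw [← Module.End.mul_apply, ← pow_succ']
    by_cases hi : (i : ℕ) + 1 < 2 * (n - 1) + 1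
    · exact Submodule.subset_span ⟨Sum.inl ⟨_, hi⟩, rfl⟩
    · rw [H.kill_ge he (by omega)]; exact zero_mem _
  · show nil h ((nil h ^ (i : ℕ)) f) ∈ _
    rw [← Module.End.mul_apply, ← pow_succ']
    by_cases hi : (i : ℕ) + 1 < 2 * (n - 1) + 1
    · exact Submodule.subset_span ⟨Sum.inr ⟨_, hi⟩, rfl⟩
    · rw [H.kill_ge hf (by omega)]; exact zero_mem _

theorem pair_nil {x : V} (hx : x ∈ pairSpan h (2 * (n - 1)) e f) (k : ℕ) :
    (nil h ^ k) x ∈ pairSpan h (2 * (n - 1)) e f :=
  pow_mem' (fun y hy => by rw [nil_apply]; exact sub_mem (H.pair_inv he hf y hy) hy) k x hx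

theorem pair_mem_left : e ∈ pairSpan h (2 * (n - 1)) e f :=
  Submodule.subset_span ⟨Sum.inl ⟨0, by omega⟩, by simp⟩

theorem pair_mem_right : f ∈ pairSpan h (2 * (n - 1)) e f :=
  Submodule.subset_span ⟨Sum.inr ⟨0, by omega⟩, by simp⟩

variable (hA : S.om ((nil h ^ (2 * (n - 1))) e) f ≠ 0)

include hA

theorem coeff_zero (c : Fin (2 * (n - 1) + 1) ⊕ Fin (2 * (n - 1) + 1) → F)
    (hc : ∀ k : ℕ, S.om ((nil h ^ k) (∑ i, c i • Sum.elim
        (fun j : Fin (2 * (n - 1) + 1) => (nil h ^ (j : ℕ)) e)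
        (fun j : Fin (2 * (n - 1) + 1) => (nil h ^ (j : ℕ)) f) i)) e = 0 ∧
      S.om ((nil h ^ k) (∑ i, c i • Sum.elim
        (fun j : Fin (2 * (n - 1) + 1) => (nil h ^ (j : ℕ)) e)
        (fun j : Fin (2 * (n - 1) + 1) => (nil h ^ (j : ℕ)) f) i)) f = 0) : ∀ i, c i = 0 := by
  suffices ∀ (i : ℕ) (hi : i < 2 * (n - 1) + 1),
      c (Sum.inl ⟨i, hi⟩) = 0 ∧ c (Sum.inr ⟨i, hi⟩) = 0 by
    rintro (⟨i, hi⟩ | ⟨i, hi⟩)
    · exact (this i hi).1
    · exact (this i hi).2
  intro i
  induction i using Nat.strong_induction_on with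
  | _ i ih =>
    intro hi
    obtain ⟨t1, t2⟩ := hc (2 * (n - 1) - i)
    have key : (nil h ^ (2 * (n - 1) - i)) (∑ i, c i • Sum.elim
        (fun j : Fin (2 * (n - 1) + 1) => (nil h ^ (j : ℕ)) e)
        (fun j : Fin (2 * (n - 1) + 1) => (nil h ^ (j : ℕ)) f) i) =
        c (Sum.inl ⟨i, hi⟩) • (nil h ^ (2 * (n - 1))) e +
          c (Sum.inr ⟨i, hi⟩) • (nil h ^ (2 * (n - 1))) f := by
      rw [Fintype.sum_sum_type, map_add, map_sum, map_sum]
      congr 1 <;>
      · rw [Finset.sum_eq_single ⟨i, hi⟩]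
        · simp only [Sum.elim_inl, Sum.elim_inr, map_smul, ← Module.End.mul_apply, ← pow_add]
          rw [show 2 * (n - 1) - i + i = 2 * (n - 1) by omega]
        · intro j _ hj
          simp only [Sum.elim_inl, Sum.elim_inr, map_smul, ← Module.End.mul_apply, ← pow_add]
          rcases lt_trichotomy (j : ℕ) i with hji | hji | hji
          · first
            | rw [(ih j hji j.2).1, zero_smul]
            | rw [(ih j hji j.2).2, zero_smul]
          · exact absurd (Fin.ext hji) hj
          · first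
            | rw [H.kill_ge he (by omega), smul_zero]
            | rw [H.kill_ge hf (by omega), smul_zero]
        · intro h; exact absurd (Finset.mem_univ _) h
    rw [key] at t1 t2
    simp only [map_add, map_smul, LinearMap.add_apply, LinearMap.smul_apply, smul_eq_mul,
      H.self_top he, H.self_top hf, H.top_swap he hf, mul_zero, zero_add, add_zero, mul_neg,
      neg_eq_zero, mul_eq_zero, hA, or_false] at t1 t2
    exact ⟨t2, t1⟩

theorem pair_linearIndependent : LinearIndependent F
    (Sum.elim (fun j : Fin (2 * (n - 1) + 1) => (nil h ^ (j : ℕ)) e)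
      fun j : Fin (2 * (n - 1) + 1) => (nil h ^ (j : ℕ)) f) := by
  rw [Fintype.linearIndependent_iff]
  intro c hc
  exact H.coeff_zero he hf hA c fun k => by simp [hc]

theorem pair_finrank :
    Module.finrank F (pairSpan h (2 * (n - 1)) e f) = 2 * (2 * (n - 1) + 1) := by
  rw [pairSpan, finrank_span_eq_card (H.pair_linearIndependent he hf hA)]
  simp; ring

theorem pair_nd : S.ND (pairSpan h (2 * (n - 1)) e f) := by
  intro x hx h0
  obtain ⟨c, rfl⟩ := (Submodule.mem_span_range_iff_exists_fun F).1 hx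
  have hinv := H.pair_inv he hf
  have hz := H.coeff_zero he hf hA c fun k => by
    have hmem : ∀ y ∈ pairSpan h (2 * (n - 1)) e f,
        (nil h.symm ^ k) y ∈ pairSpan h (2 * (n - 1)) e f :=
      pow_mem' (fun y hy => by rw [nil_apply]; exact sub_mem (hinv.symm_mem hy) hy) k
    rw [nil_adj H.pres, nil_adj H.pres]
    exact ⟨h0 _ (hmem _ (H.pair_mem_left he hf)), h0 _ (hmem _ (H.pair_mem_right he hf))⟩
  exact Finset.sum_eq_zero fun i _ => by rw [hz i, zero_smul]

theorem pair_ne_bot : pairSpan h (2 * (n - 1)) e f ≠ ⊥ := fun h0 => by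
  have := H.pair_finrank he hf hA
  rw [h0, finrank_bot] at this
  omega

theorem lagr_zero (a' b' : ℕ → F) (a b : ℕ → F)
    (hy : ∑ i ∈ Finset.range n, a' i • (mid h ^ i) e +
        ∑ i ∈ Finset.range (n - 1), b' i • (mid h ^ i) (nil h f) =
      nil h (∑ i ∈ Finset.range n, a i • (mid h ^ i) e +
        ∑ i ∈ Finset.range (n - 1), b i • (mid h ^ i) (nil h f))) :
    (∀ i < n, a' i = 0) ∧ ∀ i < n - 1, b' i = 0 := by
  set M := mid h with hM
  set N := nil h with hN
  have hpe : ∀ x ∈ W, (M ^ (n - 1)) x = (N ^ (2 * (n - 1))) x := fun x hx => H.top_eq hx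
  have hNM : ∀ k x, N ((M ^ k) x) = (M ^ k) (N x) := by
    intro k
    induction k with
    | zero => simp
    | succ k ih =>
      intro x
      rw [pow_succ, Module.End.mul_apply, ih, Module.End.mul_apply]
      congr 1
      simp [hM, hN, nil_apply, mid_comm]
  have hNN : ∀ x, N (N x) = M (h x) := fun x => by
    rw [hM, mid_eq, LinearEquiv.symm_apply_apply]
  have hM' : ∀ j k (x : V), (M ^ j) ((M ^ k) x) = (M ^ (j + k)) x := fun j k x => by
    rw [pow_add, Module.End.mul_apply]
  have hNW : ∀ x ∈ W, N x ∈ W := fun x hx => H.nil_mem hx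
  have hfix : ∀ x ∈ W, (M ^ (n - 1)) (h x) = (M ^ (n - 1)) x := fun x hx => by
    have := H.nil_mid_kill hx le_rfl
    rw [← hM, hNM, hN, nil_apply, map_sub, sub_eq_zero] at this
    exact this
  -- apply `M^k` to both sides
  have hk : ∀ k, ∑ i ∈ Finset.range n, a' i • (M ^ (k + i)) e +
        ∑ i ∈ Finset.range (n - 1), b' i • (M ^ (k + i)) (N f) =
      ∑ i ∈ Finset.range n, a i • (M ^ (k + i)) (N e) +
        ∑ i ∈ Finset.range (n - 1), b i • (M ^ (k + 1 + i)) (h f) := by
    intro k
    have h' := congrArg (M ^ k) hy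
    simp only [map_add, map_sum, map_smul, hNM, hNN, hM'] at h'
    rw [h']
    congr 1
    refine Finset.sum_congr rfl fun i _ => ?_
    rw [show k + 1 + i = k + i + 1 by ring, pow_succ, Module.End.mul_apply]
  have hkN : ∀ k, ∑ i ∈ Finset.range n, a' i • (M ^ (k + i)) (N e) +
        ∑ i ∈ Finset.range (n - 1), b' i • (M ^ (k + 1 + i)) (h f) =
      ∑ i ∈ Finset.range n, a i • (M ^ (k + 1 + i)) (h e) +
        ∑ i ∈ Finset.range (n - 1), b i • (M ^ (k + 1 + i)) (N (h f)) := by
    intro k
    have h' := congrArg N (hk k)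
    simp only [map_add, map_sum, map_smul, hNM, hNN] at h'
    have e1 : ∀ (i : ℕ) (x : V), (M ^ (k + i)) (M x) = (M ^ (k + 1 + i)) x := fun i x => by
      rw [show k + 1 + i = k + i + 1 by ring, pow_succ, Module.End.mul_apply]
    simp only [e1] at h'
    exact h'
  have z1 : ∀ x ∈ W, ∀ k, n ≤ k → (M ^ k) x = 0 := fun x hx k hk => H.mid_kill hx hk
  have z2 : ∀ x ∈ W, ∀ k, n - 1 ≤ k → (M ^ k) (N x) = 0 := fun x hx k hk => by
    rw [← hNM, hM, hN, H.nil_mid_kill hx hk]
  have sum_single : ∀ (m j : ℕ) (c : ℕ → F) (v : ℕ → V), j < m →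
      (∀ i < m, i ≠ j → c i • v i = 0) → ∑ i ∈ Finset.range m, c i • v i = c j • v j :=
    fun m j c v hj hz => Finset.sum_eq_single j (fun i hi hij => hz i (Finset.mem_range.1 hi) hij)
      fun hn => absurd (Finset.mem_range.2 hj) hn
  set P := (N ^ (2 * (n - 1))) e with hP
  set P' := (N ^ (2 * (n - 1))) f with hP'
  have indep : ∀ x y : F, x • P + y • P' = 0 → x = 0 ∧ y = 0 := by
    intro x y hxy
    have u1 := congrArg (fun z => S.om z e) hxy
    have u2 := congrArg (fun z => S.om z f) hxy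
    simp only [map_add, map_smul, LinearMap.add_apply, LinearMap.smul_apply, smul_eq_mul, hP, hP',
      hN, H.self_top he, H.self_top hf, H.top_swap he hf, map_zero, LinearMap.zero_apply, mul_zero,
      zero_add, add_zero, mul_neg, neg_eq_zero, mul_eq_zero] at u1 u2
    exact ⟨u2.resolve_right hA, u1.resolve_right hA⟩
  suffices ∀ i, i < n → (∀ j ≤ i, a' j = 0) ∧ (∀ j < i, a j = 0 ∧ b' j = 0 ∧ b j = 0) by
    refine ⟨fun i hi => (this i hi).1 i le_rfl, fun i hi => ?_⟩
    exact ((this (i + 1) (by omega)).2 i (by omega)).2.1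
  intro i
  induction i with
  | zero =>
    intro hi
    refine ⟨fun j hj => ?_, fun j hj => absurd hj (by omega)⟩
    obtain rfl : j = 0 := by omega
    have h' := hk (n - 1)
    rw [sum_single n 0 a' _ hi (fun j hj hj0 => by rw [z1 e he _ (by omega), smul_zero]),
      Finset.sum_eq_zero (fun j _ => by rw [z2 f hf _ (by omega), smul_zero]),
      Finset.sum_eq_zero (fun j _ => by rw [z2 e he _ (by omega), smul_zero]),
      Finset.sum_eq_zero (fun j _ => by rw [z1 _ (H.inv f hf) _ (by omega), smul_zero]),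
      Nat.add_zero, hpe e he, ← hP] at h'
    simp only [add_zero] at h'
    exact (indep _ 0 (by rw [zero_smul, add_zero]; exact h')).1
  | succ i ih =>
    intro hi
    obtain ⟨iha', ihl⟩ := ih (by omega)
    -- `N M^(n-2-i)`
    have h' := hkN (n - 2 - i)
    rw [Finset.sum_eq_zero (fun j hj => by
        by_cases hji : j ≤ i
        · rw [iha' j hji, zero_smul]
        · rw [z2 e he _ (by omega), smul_zero]),
      sum_single (n - 1) i b' _ (by omega) (fun j hj hji => by
        by_cases hlt : j < i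
        · rw [(ihl j hlt).2.1, zero_smul]
        · rw [z1 _ (H.inv f hf) _ (by omega), smul_zero]),
      sum_single n i a _ (by omega) (fun j hj hji => by
        by_cases hlt : j < i
        · rw [(ihl j hlt).1, zero_smul]
        · rw [z1 _ (H.inv e he) _ (by omega), smul_zero]),
      Finset.sum_eq_zero (s := Finset.range (n - 1)) (f := fun j => b j • _) (fun j hj => by
        by_cases hlt : j < i
        · rw [(ihl j hlt).2.2, zero_smul]
        · rw [z2 _ (H.inv f hf) _ (by omega), smul_zero]),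
      show n - 2 - i + 1 + i = n - 1 by omega, zero_add, add_zero, hfix f hf, hfix e he,
      hpe e he, hpe f hf, ← hP, ← hP'] at h'
    obtain ⟨ha0, hb'0⟩ := indep (-a i) (b' i) (by rw [neg_smul, h', neg_add_cancel])
    rw [neg_eq_zero] at ha0
    -- `M^(n-2-i)`
    have h'' := hk (n - 2 - i)
    rw [sum_single n (i + 1) a' _ hi (fun j hj hji => by
        by_cases hlt : j ≤ i
        · rw [iha' j hlt, zero_smul]
        · rw [z1 e he _ (by omega), smul_zero]),
      Finset.sum_eq_zero (s := Finset.range (n - 1)) (f := fun j => b' j • _) (fun j hj => by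
        rcases lt_trichotomy j i with hlt | rfl | hgt
        · rw [(ihl j hlt).2.1, zero_smul]
        · rw [hb'0, zero_smul]
        · rw [z2 f hf _ (by omega), smul_zero]),
      Finset.sum_eq_zero (s := Finset.range n) (f := fun j => a j • _) (fun j hj => by
        rcases lt_trichotomy j i with hlt | rfl | hgt
        · rw [(ihl j hlt).1, zero_smul]
        · rw [ha0, zero_smul]
        · rw [z2 e he _ (by omega), smul_zero]),
      sum_single (n - 1) i b _ (by omega) (fun j hj hji => by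
        by_cases hlt : j < i
        · rw [(ihl j hlt).2.2, zero_smul]
        · rw [z1 _ (H.inv f hf) _ (by omega), smul_zero]),
      show n - 2 - i + (i + 1) = n - 1 by omega, show n - 2 - i + 1 + i = n - 1 by omega,
      add_zero, zero_add, hfix f hf, hpe e he, hpe f hf, ← hP, ← hP'] at h''
    obtain ⟨ha1, hb0⟩ := indep (a' (i + 1)) (-b i) (by rw [neg_smul, h'', add_neg_cancel])
    rw [neg_eq_zero] at hb0
    refine ⟨fun j hj => ?_, fun j hj => ?_⟩
    · rcases Nat.lt_or_ge j (i + 1) with hlt | hge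
      · exact iha' j (by omega)
      · rwa [show j = i + 1 by omega]
    · rcases Nat.lt_or_ge j i with hlt | hge
      · exact ihl j hlt
      · obtain rfl : j = i := by omega
        exact ⟨ha0, hb'0, hb0⟩

theorem lu_of_adjusted (hφ : ∀ i, S.om ((mid h ^ i) e) (nil h f) = 0) :
    IsLU S h 1 (pairSpan h (2 * (n - 1)) e f) := by
  classical
  let v : Fin n ⊕ Fin (n - 1) → V :=
    Sum.elim (fun j => (mid h ^ (j : ℕ)) e) fun j => (mid h ^ (j : ℕ)) (nil h f)
  set L := Submodule.span F (Set.range v) with hL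
  have hSA := sa_mid (S := S) H.pres
  have hinv := H.pair_inv he hf
  have hmid : ∀ x ∈ pairSpan h (2 * (n - 1)) e f, mid h x ∈ pairSpan h (2 * (n - 1)) e f :=
    fun x hx => by
      rw [mid_apply]
      exact sub_mem (add_mem (hinv x hx) (hinv.symm_mem hx)) (Submodule.smul_mem _ _ hx)
  have hnf : nil h f ∈ pairSpan h (2 * (n - 1)) e f := by
    simpa using H.pair_nil he hf (H.pair_mem_right he hf) 1
  have hLP : L ≤ pairSpan h (2 * (n - 1)) e f := Submodule.span_le.2 (by
    rintro _ ⟨i | i, rfl⟩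
    · exact pow_mem' hmid _ _ (H.pair_mem_left he hf)
    · exact pow_mem' hmid _ _ hnf)
  have hiso : S.Iso L := iso_span v fun i j => by
    rcases i with i | i <;> rcases j with j | j
    · show S.om ((mid h ^ (i : ℕ)) e) ((mid h ^ (j : ℕ)) e) = 0
      rw [← hSA.pow_adj, ← Module.End.mul_apply, ← pow_add, hSA.pow_alt]
    · show S.om ((mid h ^ (i : ℕ)) e) ((mid h ^ (j : ℕ)) (nil h f)) = 0
      rw [← hSA.pow_adj, ← Module.End.mul_apply, ← pow_add, hφ]
    · show S.om ((mid h ^ (i : ℕ)) (nil h f)) ((mid h ^ (j : ℕ)) e) = 0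
      rw [S.swap, ← hSA.pow_adj, ← Module.End.mul_apply, ← pow_add, hφ, neg_zero]
    · show S.om ((mid h ^ (i : ℕ)) (nil h f)) ((mid h ^ (j : ℕ)) (nil h f)) = 0
      rw [← hSA.pow_adj, ← Module.End.mul_apply, ← pow_add, hSA.pow_alt]
  let ext0 : (Fin n ⊕ Fin (n - 1) → F) → (ℕ → F) × (ℕ → F) := fun c =>
    (fun i => if hi : i < n then c (Sum.inl ⟨i, hi⟩) else 0,
      fun i => if hi : i < n - 1 then c (Sum.inr ⟨i, hi⟩) else 0)
  have hsum : ∀ c : Fin n ⊕ Fin (n - 1) → F, ∑ k, c k • v k =
      ∑ i ∈ Finset.range n, (ext0 c).1 i • (mid h ^ i) e +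
        ∑ i ∈ Finset.range (n - 1), (ext0 c).2 i • (mid h ^ i) (nil h f) := by
    intro c
    rw [Fintype.sum_sum_type, Finset.sum_range, Finset.sum_range]
    simp [v, ext0]
  have hindep : LinearIndependent F v := by
    rw [Fintype.linearIndependent_iff]
    intro c hc
    obtain ⟨k1, k2⟩ := H.lagr_zero he hf hA (ext0 c).1 (ext0 c).2 (fun _ => 0) (fun _ => 0)
      (by rw [← hsum c, hc]; simp)
    rintro (⟨i, hi⟩ | ⟨i, hi⟩)
    · simpa [ext0, hi] using k1 i hi
    · simpa [ext0, hi] using k2 i hi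
  have hdim : 2 * Module.finrank F L = Module.finrank F (pairSpan h (2 * (n - 1)) e f) := by
    rw [H.pair_finrank he hf hA, hL, finrank_span_eq_card hindep]
    have := H.pos
    simp
    omega
  refine isLU_of_lagrangian h (H.pair_nd he hf hA) hLP hiso hdim hinv ?_ ?_
  · intro x hx y hy
    have hsy : sumInv h y ∈ L := by
      rw [sumInv_eq_mid]
      refine add_mem (span_range_mem (fun i => ?_) hy) (L.smul_mem _ hy)
      rcases i with i | i
      · show mid h ((mid h ^ (i : ℕ)) e) ∈ _
        rw [← Module.End.mul_apply, ← pow_succ']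
        by_cases hi : (i : ℕ) + 1 < n
        · exact Submodule.subset_span ⟨Sum.inl ⟨_, hi⟩, rfl⟩
        · rw [H.mid_kill he (by omega)]; exact zero_mem _
      · show mid h ((mid h ^ (i : ℕ)) (nil h f)) ∈ _
        rw [← Module.End.mul_apply, ← pow_succ']
        by_cases hi : (i : ℕ) + 1 < n - 1
        · exact Submodule.subset_span ⟨Sum.inr ⟨_, hi⟩, rfl⟩
        · have h1 : nil h ((mid h ^ ((i : ℕ) + 1)) f) = 0 := H.nil_mid_kill hf (by omega)
          have h2 : ∀ k x, nil h ((mid h ^ k) x) = (mid h ^ k) (nil h x) := by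
            intro k
            induction k with
            | zero => simp
            | succ k ih =>
              intro x
              rw [pow_succ, Module.End.mul_apply, ih, Module.End.mul_apply]
              congr 1
              simp [nil_apply, mid_comm]
          rw [← h2, h1]; exact zero_mem _
    have h1 := hiso x hx _ hsy
    rw [sumInv_apply, map_add, ← H.pres.left] at h1
    simp only [one_smul, map_sub, LinearMap.sub_apply, H.pres x y, hiso x hx y hy]
    linear_combination (-1 : F) * h1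
  · intro x hx hxL
    rw [one_smul] at hxL ⊢
    obtain ⟨c, hc⟩ := (Submodule.mem_span_range_iff_exists_fun F).1 hx
    obtain ⟨c', hc'⟩ := (Submodule.mem_span_range_iff_exists_fun F).1 hxL
    obtain ⟨k1, k2⟩ := H.lagr_zero he hf hA (ext0 c').1 (ext0 c').2 (ext0 c).1 (ext0 c).2
      (by rw [← hsum c', ← hsum c, hc, hc', nil_apply])
    rw [← hc', hsum, Finset.sum_eq_zero (fun i hi => by rw [k1 i (Finset.mem_range.1 hi), zero_smul]),
      Finset.sum_eq_zero (fun i hi => by rw [k2 i (Finset.mem_range.1 hi), zero_smul]), add_zero]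

theorem lu_piece : IsLU S h 1 (pairSpan h (2 * (n - 1)) e f) := by
  classical
  have hpos := H.pos
  have hSA := sa_mid (S := S) H.pres
  have hpe : S.om ((mid h ^ (n - 1)) e) f ≠ 0 := by rwa [H.top_eq he]
  obtain ⟨a, ha⟩ := chain_solve (S := S) (mid h) (H.mid_kill he le_rfl) (f := f)
    (fun k hk => by rw [show k = n - 1 by omega]; exact hpe)
    fun i : Fin n => S.om ((mid h ^ (i : ℕ)) e) (nil h f)
  have ha0 : a ⟨0, hpos⟩ = 0 := by
    have := ha ⟨n - 1, by omega⟩
    rw [map_sum, map_sum, LinearMap.sum_apply, Finset.sum_eq_single ⟨0, hpos⟩] at this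
    · simp only [pow_zero, Module.End.one_apply, map_smul, LinearMap.smul_apply, smul_eq_mul] at this
      rw [H.top_eq he, H.top_nil he, ← H.top_eq he] at this
      exact (mul_eq_zero.1 this).resolve_right hpe
    · intro j _ hj
      have hj0 : (j : ℕ) ≠ 0 := fun h => hj (Fin.ext h)
      rw [map_smul, ← Module.End.mul_apply, ← pow_add, H.mid_kill he (by simp only; omega), smul_zero,
        map_zero, LinearMap.zero_apply]
    · intro h; exact absurd (Finset.mem_univ _) h
  set w : V := ∑ j : Fin n, a j • (if (j : ℕ) = 0 then 0 else (mid h ^ ((j : ℕ) - 1)) f) with hw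
  have hwW : w ∈ W := sum_mem fun j _ => W.smul_mem _ (by
    split_ifs
    · exact zero_mem _
    · exact pow_mem' (fun x hx => H.mid_mem hx) _ _ hf)
  have hwP : w ∈ pairSpan h (2 * (n - 1)) e f := sum_mem fun j _ => Submodule.smul_mem _ _ (by
    split_ifs
    · exact zero_mem _
    · exact pow_mem' (fun x hx => by
        rw [mid_apply]
        exact sub_mem (add_mem (H.pair_inv he hf x hx) ((H.pair_inv he hf).symm_mem hx))
          (Submodule.smul_mem _ _ hx)) _ _ (H.pair_mem_right he hf))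
  set f₁ := f - nil h (h.symm w) with hf1
  have hNw : nil h f₁ = nil h f - ∑ j : Fin n, a j • (mid h ^ (j : ℕ)) f := by
    rw [hf1, map_sub, ← mid_eq, hw, map_sum]
    congr 1
    refine Finset.sum_congr rfl fun j _ => ?_
    rw [map_smul]
    split_ifs with hj
    · rw [show j = ⟨0, hpos⟩ from Fin.ext hj, ha0, zero_smul, zero_smul]
    · rw [← Module.End.mul_apply, ← pow_succ']
      congr 3
      omega
  have hφ : ∀ i, S.om ((mid h ^ i) e) (nil h f₁) = 0 := by
    intro i
    by_cases hi : i < n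
    · have := ha ⟨i, hi⟩
      simp only at this
      rw [hNw, map_sub, ← this, map_sum, map_sum, map_sum, LinearMap.sum_apply, sub_eq_zero]
      refine Finset.sum_congr rfl fun j _ => ?_
      simp only [map_smul, LinearMap.smul_apply, ← hSA.pow_adj, ← Module.End.mul_apply, ← pow_add,
        add_comm]
    · rw [H.mid_kill he (by omega), map_zero, LinearMap.zero_apply]
  have hf1W : f₁ ∈ W := sub_mem hf (H.nil_mem (H.inv.symm_mem hwW))
  have hA1 : S.om ((nil h ^ (2 * (n - 1))) e) f₁ ≠ 0 := by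
    rw [hf1, map_sub, H.top_nil he, sub_zero]; exact hA
  have hle : pairSpan h (2 * (n - 1)) e f₁ ≤ pairSpan h (2 * (n - 1)) e f := by
    have hf1P : f₁ ∈ pairSpan h (2 * (n - 1)) e f := sub_mem (H.pair_mem_right he hf) (by
      simpa using H.pair_nil he hf ((H.pair_inv he hf).symm_mem hwP) 1)
    refine Submodule.span_le.2 ?_
    rintro _ ⟨i | i, rfl⟩
    · exact H.pair_nil he hf (H.pair_mem_left he hf) _
    · exact H.pair_nil he hf hf1P _
  rw [← Submodule.eq_of_le_of_finrank_le hle
    (by rw [H.pair_finrank he hf hA, H.pair_finrank he hf1W hA1])]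
  exact H.lu_of_adjusted he hf1W hA1 hφ

end OddSetting

end H31.SPC
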