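import Cfsg.Agent.H31.SpComm.Twist

/-!
Every nondegenerate invariant subspace is an orthogonal sum of `IsLU 1` pieces and twisted pairs.
-/

set_option autoImplicit false
set_option linter.style.haveILetI false
set_option linter.unusedSectionVars false

open Polynomial

namespace H31.SPC

universe u v

variable {F : Type u} [Field F] {V : Type v} [AddCommGroup V] [Module F V] [FiniteDimensional F V]

/-- Orthogonal sums of `IsLU 1` pieces and twisted pairs. -/
inductive Good (S : Frm F V) (g : V ≃ₗ[F] V) : Submodule F V → Prop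
  | lu {W : Submodule F V} : IsLU S g 1 W → Good S g W
  | tw {A B : Submodule F V} : Good S g A → Twist S g B → S.ND A → Inv' g A → S.Orth A B →
      Good S g (A ⊔ B)

variable {S : Frm F V} {g : V ≃ₗ[F] V}

theorem Good.add_lu {W : Submodule F V} (hW : Good S g W) : ∀ {P : Submodule F V},
    IsLU S g 1 P → S.ND P → Inv' g P → S.Orth P W → Good S g (P ⊔ W) := by
  induction hW with
  | lu h => exact fun hP hn _ ho => .lu (hP.sup h hn ho)
  | @tw A B _ hB hnA hiA hoAB ih =>
    intro P hP hn hi ho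
    have hoA : S.Orth P A := fun x hx y hy => ho x hx y (Submodule.mem_sup_left hy)
    have hoB : S.Orth P B := fun x hx y hy => ho x hx y (Submodule.mem_sup_right hy)
    rw [← sup_assoc]
    exact .tw (ih hP hn hi hoA) hB (hoA.nd_sup hn hnA) (Inv'.sup g hi hiA)
      ((Frm.Orth.sup_right hoB.symm hoAB.symm).symm)

theorem exists_primary (hg : S.Pres g) {W : Submodule F V} (hW : S.ND W) (hgW : Inv' g W)
    (hne : W ≠ ⊥) :
    ∃ (W' : Submodule F V) (π : F[X]) (n : ℕ), W' ≤ W ∧ W' ≠ ⊥ ∧ S.ND W' ∧ Inv' g W' ∧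
      Irreducible π ∧ 1 ≤ n ∧ (∀ x ∈ W', aeval (sumInv g) (π ^ n) x = 0) ∧
      ∃ x ∈ W', aeval (sumInv g) (π ^ (n - 1)) x ≠ 0 := by
  classical
  set s := sumInv g with hs
  have hsW : ∀ x ∈ W, s x ∈ W := fun x hx => inv_sumInv hgW hx
  have hSA := sa_sumInv (S := S) hg
  set t : Module.End F W := s.restrict hsW with ht
  have hval : ∀ (q : F[X]) (x : W), (aeval t q x : V) = aeval s q x := by
    intro q x
    induction q using Polynomial.induction_on' with
    | add p q hp hq => simp [hp, hq]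
    | monomial m c =>
      simp only [aeval_monomial, Algebra.algebraMap_eq_smul_one, smul_mul_assoc, one_mul,
        LinearMap.smul_apply, Submodule.coe_smul]
      congr 1
      induction m with
      | zero => simp
      | succ m ih => rw [pow_succ', pow_succ', Module.End.mul_apply, Module.End.mul_apply, ← ih]; rfl
  haveI : Nontrivial W := Submodule.nontrivial_iff_ne_bot.2 hne
  have hint : IsIntegral F t := Algebra.IsIntegral.isIntegral t
  have hμ0 : minpoly F t ≠ 0 := minpoly.ne_zero hint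
  obtain ⟨π, hπ, hdvd⟩ := WfDvdMonoid.exists_irreducible_factor
    (minpoly.not_isUnit F t) hμ0
  obtain ⟨k, r, hr, hμ⟩ := WfDvdMonoid.max_power_factor hμ0 hπ
  have hkill : ∀ x ∈ W, aeval s (π ^ k * r) x = 0 := fun x hx => by
    rw [← hμ, ← hval _ ⟨x, hx⟩, minpoly.aeval]; rfl
  obtain ⟨a, b, hab⟩ : IsCoprime r (π ^ k) := ((hπ.coprime_iff_not_dvd.2 hr).symm).pow_right
  have hdec : ∀ x, x = aeval s (a * r) x + aeval s (π ^ k) (aeval s b x) := fun x => by
    rw [← Module.End.mul_apply, ← map_mul, ← LinearMap.add_apply, ← map_add, mul_comm (π ^ k) b,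
      hab, map_one, Module.End.one_apply]
  set W' := W ⊓ LinearMap.ker (aeval s (π ^ k)) with hW'
  have hne' : W' ≠ ⊥ := by
    intro h0
    refine hr (dvd_trans hdvd (minpoly.dvd F t (LinearMap.ext fun x => Subtype.ext ?_)))
    have h1 : aeval s r x.1 ∈ W' := ⟨aeval_mem hsW r _ x.2, by
      show aeval s (π ^ k) (aeval s r x.1) = 0
      rw [← Module.End.mul_apply, ← map_mul]; exact hkill _ x.2⟩
    rw [h0, Submodule.mem_bot] at h1
    rw [hval, h1]; rfl
  have hnd : S.ND W' := by
    intro x hx h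
    refine hW x hx.1 fun y hy => ?_
    rw [hdec y, map_add, h (aeval s (a * r) y) ⟨aeval_mem hsW _ _ hy, ?_⟩, zero_add,
      ← (hSA.aeval (π ^ k)).adj, hx.2, map_zero, LinearMap.zero_apply]
    show aeval s (π ^ k) (aeval s (a * r) y) = 0
    rw [← Module.End.mul_apply, ← map_mul, show π ^ k * (a * r) = a * (π ^ k * r) by ring, map_mul,
      Module.End.mul_apply, hkill y hy, map_zero]
  have hinv : Inv' g W' := fun x hx => ⟨hgW x hx.1, by
    show aeval s (π ^ k) (g x) = 0
    rw [← aeval_comm, show aeval s (π ^ k) x = 0 from hx.2, map_zero]⟩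
  have hex : ∃ n, ∀ x ∈ W', aeval s (π ^ n) x = 0 := ⟨k, fun x hx => hx.2⟩
  set n := Nat.find hex
  have hn1 : 1 ≤ n := by
    by_contra h0
    refine hne' ((Submodule.eq_bot_iff _).2 fun x hx => ?_)
    have := Nat.find_spec hex x hx
    rwa [show Nat.find hex = 0 from (by omega : n = 0), pow_zero, map_one,
      Module.End.one_apply] at this
  have hmin := Nat.find_min hex (show n - 1 < n by omega)
  push Not at hmin
  exact ⟨W', π, n, inf_le_left, hne', hnd, hinv, hπ, hn1, Nat.find_spec hex, hmin⟩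

theorem exists_piece [Fintype F] (hg : S.Pres g) {W₀ : Submodule F V} (hW₀ : S.ND W₀)
    (hgW₀ : Inv' g W₀) (hne₀ : W₀ ≠ ⊥) :
    ∃ P, P ≤ W₀ ∧ P ≠ ⊥ ∧ S.ND P ∧ Inv' g P ∧ (IsLU S g 1 P ∨ Twist S g P) := by
  obtain ⟨W, π, n, hle, -, hW, hgW, hπ, hn, hkill, x₀, hx₀, hmin⟩ :=
    exists_primary hg hW₀ hgW₀ hne₀
  suffices ∃ P, P ≤ W ∧ P ≠ ⊥ ∧ S.ND P ∧ Inv' g P ∧ (IsLU S g 1 P ∨ Twist S g P) by
    obtain ⟨P, h1, h2⟩ := this
    exact ⟨P, h1.trans hle, h2⟩
  by_cases hA : ∃ e ∈ W, S.om (aeval (sumInv g) (π ^ (n - 1)) e) (g e) ≠ 0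
  · obtain ⟨e, he, hQ⟩ := hA
    obtain ⟨P, h1, h2, h3, h4, h5⟩ := primary_piece hg hgW hπ hn hkill he hQ
    exact ⟨P, h1, h2, h3, h4, Or.inl (h5 1)⟩
  push Not at hA
  have hSA := sa_sumInv (S := S) hg
  set p := aeval (sumInv g) (π ^ (n - 1)) with hp
  have hpW : ∀ x ∈ W, p x ∈ W := aeval_mem (fun x hx => inv_sumInv hgW hx) _
  have hfix : ∀ x ∈ W, g (p x) = g.symm (p x) := by
    intro x hx
    refine sub_eq_zero.1 (hW _ (sub_mem (hgW _ (hpW x hx)) (hgW.symm_mem (hpW x hx))) fun y hy => ?_)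
    have h1 := hA (x + y) (add_mem hx hy)
    simp only [map_add, LinearMap.add_apply, hA x hx, hA y hy, zero_add, add_zero] at h1
    rw [S.swap (g x) (p y), ← (hSA.aeval (π ^ (n - 1))).adj, ← aeval_comm] at h1
    rw [map_sub, LinearMap.sub_apply, hg.symm.left, LinearEquiv.symm_symm]
    linear_combination -h1
  -- `π` is `X - 2ε`
  have hz : ∀ x ∈ W, aeval (sumInv g) π (p x) = 0 := fun x hx => by
    rw [hp, ← Module.End.mul_apply, ← map_mul, ← pow_succ', Nat.sub_add_cancel hn]
    exact hkill x hx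
  set z := p x₀ with hzdef
  have hz0 : z ≠ 0 := hmin
  obtain ⟨ε, hε, hroot⟩ : ∃ ε : F, ε * ε = 1 ∧ π.IsRoot (2 * ε) := by
    have hgz : g (g z) = z := by rw [hfix x₀ hx₀, LinearEquiv.apply_symm_apply]
    have haux : ∀ (c : F) (w : V), w ≠ 0 → sumInv g w = c • w → aeval (sumInv g) π w = 0 →
        π.IsRoot c := by
      intro c w hw hsw h0
      rw [Module.End.aeval_apply_of_hasEigenvector
        ⟨Module.End.mem_eigenspace_iff.2 hsw, hw⟩] at h0
      exact (smul_eq_zero.1 h0).resolve_right hw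
    by_cases hw : z + g z = 0
    · have hgneg : g z = -z := eq_neg_of_add_eq_zero_right hw
      refine ⟨-1, by ring, haux _ z hz0 ?_ (hz x₀ hx₀)⟩
      rw [sumInv_apply, ← hfix x₀ hx₀, hgneg]
      module
    · refine ⟨1, by ring, haux _ _ hw ?_ ?_⟩
      · have h1 : g (z + g z) = z + g z := by rw [map_add, hgz, add_comm]
        have h2 : g.symm (z + g z) = z + g z := g.symm_apply_eq.2 h1.symm
        rw [sumInv_apply, h1, h2]
        module
      · rw [map_add, hz x₀ hx₀, ← aeval_comm, hz x₀ hx₀, map_zero, add_zero]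
  have hdeg : π.degree = 1 := degree_eq_one_of_irreducible_of_root hπ hroot
  set c := π.leadingCoeff with hc
  have hc0 : c ≠ 0 := leadingCoeff_ne_zero.2 hπ.ne_zero
  have hπeq : π = C c * (X - C (2 * ε)) := by
    have h1 := eq_X_add_C_of_degree_le_one hdeg.le
    have hcc : c = π.coeff 1 := by
      rw [hc, leadingCoeff, natDegree_eq_of_degree_eq_some hdeg]; rfl
    have h2 := hroot
    rw [IsRoot, h1] at h2
    simp only [eval_add, eval_mul, eval_C, eval_X] at h2
    conv_lhs => rw [h1]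
    rw [hcc, mul_sub, ← map_mul, sub_eq_add_neg, ← map_neg,
      show -(π.coeff 1 * (2 * ε)) = π.coeff 0 by linear_combination -h2]
  -- the unipotent part
  have hε0 : ε ≠ 0 := fun h => by simp [h] at hε
  let h : V ≃ₗ[F] V := g.trans (LinearEquiv.smulOfUnit (Units.mk0 ε hε0))
  have hhx : ∀ x, h x = ε • g x := fun x => rfl
  have hgx : ∀ x, g x = ε • h x := fun x => by rw [hhx, smul_smul, hε, one_smul]
  have hhs : ∀ x, h.symm x = ε • g.symm x := fun x => by
    rw [LinearEquiv.symm_apply_eq, hhx, map_smul, LinearEquiv.apply_symm_apply, smul_smul, hε,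
      one_smul]
  have hph : S.Pres h := fun x y => by
    simp only [hhx, map_smul, LinearMap.smul_apply, smul_eq_mul, hg x y]
    linear_combination (S.om x y) * hε
  have hhW : Inv' h W := fun x hx => by rw [hhx]; exact W.smul_mem _ (hgW x hx)
  have hmid : mid h = (ε / c) • aeval (sumInv g) π := by
    refine LinearMap.ext fun x => ?_
    rw [mid_apply, hhx, hhs, hπeq, map_mul, aeval_C, map_sub, aeval_X, aeval_C, LinearMap.smul_apply,
      Module.End.mul_apply, Algebra.algebraMap_eq_smul_one, Algebra.algebraMap_eq_smul_one,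
      LinearMap.smul_apply, Module.End.one_apply, LinearMap.sub_apply, LinearMap.smul_apply,
      Module.End.one_apply, sumInv_apply, smul_smul, div_mul_cancel₀ _ hc0, smul_sub, smul_smul,
      show ε * (2 * ε) = 2 by linear_combination (2 : F) * hε, smul_add]
  have hM : ∀ k x, (mid h ^ k) x = (ε / c) ^ k • aeval (sumInv g) (π ^ k) x := fun k x => by
    rw [hmid, _root_.smul_pow, LinearMap.smul_apply, map_pow]
  have hMk : ∀ x ∈ W, (mid h ^ n) x = 0 := fun x hx => by rw [hM, hkill x hx, smul_zero]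
  have hMQ : ∀ x ∈ W, S.om ((mid h ^ (n - 1)) x) (h x) = 0 := fun x hx => by
    rw [hM, hhx]
    simp only [map_smul, LinearMap.smul_apply, ← hp, hA x hx, smul_zero]
  have hMne : (mid h ^ (n - 1)) x₀ ≠ 0 := by
    rw [hM]; exact smul_ne_zero (pow_ne_zero _ (div_ne_zero hε0 hc0)) hmin
  have hMh : ∀ x ∈ W, h ((mid h ^ (n - 1)) x) = h.symm ((mid h ^ (n - 1)) x) := fun x hx => by
    rw [hhx, hhs, hM, map_smul, map_smul, hfix x hx]
  have hMW : ∀ x ∈ W, mid h x ∈ W := fun x hx => by
    rw [mid_apply]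
    exact sub_mem (add_mem (hhW x hx) (hhW.symm_mem hx)) (W.smul_mem _ hx)
  by_cases hB : ∃ e ∈ W, h ((mid h ^ (n - 1)) e) ≠ (mid h ^ (n - 1)) e
  · obtain ⟨e, he, hne⟩ := hB
    set z' := (mid h ^ (n - 1)) e with hz'
    have hz'W : z' ∈ W := pow_mem' hMW _ _ he
    have hsum : h z' + h.symm z' = (2 : F) • z' := by
      have := hMk e he
      rw [show n = n - 1 + 1 by omega, pow_succ', Module.End.mul_apply, mid_apply, sub_eq_zero] at this
      exact this
    rw [← hMh e he, ← two_smul F] at hsum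
    have h2 : (2 : F) = 0 := by
      by_contra h2; exact hne (smul_right_injective V h2 hsum)
    have hne' : h.symm z' ≠ z' := by rwa [← hMh e he]
    obtain ⟨f, hf, hf0, hf1⟩ : ∃ f ∈ W, S.om z' f = 0 ∧ S.om (h.symm z') f ≠ 0 := by
      by_contra hno
      push Not at hno
      obtain ⟨f₀, hf₀, hf₀'⟩ : ∃ f₀ ∈ W, S.om z' f₀ ≠ 0 := by
        by_contra hall
        push Not at hall
        exact hne (by rw [hW z' hz'W hall, map_zero])
      set d := S.om (h.symm z') f₀ / S.om z' f₀ with hd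
      have hzero : h.symm z' - d • z' = 0 := by
        refine hW _ (sub_mem (hhW.symm_mem hz'W) (W.smul_mem _ hz'W)) fun y hy => ?_
        have h1 := hno (y - (S.om z' y / S.om z' f₀) • f₀) (sub_mem hy (W.smul_mem _ hf₀)) (by
          rw [map_sub, map_smul, smul_eq_mul, div_mul_cancel₀ _ hf₀', sub_self])
        rw [map_sub, map_smul, smul_eq_mul, sub_eq_zero] at h1
        rw [map_sub, map_smul, LinearMap.sub_apply, LinearMap.smul_apply, smul_eq_mul, h1, hd]
        ring
      rw [sub_eq_zero] at hzero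
      have h1 : h (h.symm z') = d • d • z' := by
        rw [hzero, map_smul, hMh e he, hzero]
      rw [LinearEquiv.apply_symm_apply, smul_smul] at h1
      have hd1 : (d - 1) * (d - 1) = 0 := by
        have : (d * d - 1) • z' = 0 := by rw [sub_smul, ← h1, one_smul, sub_self]
        have hz'0 : z' ≠ 0 := fun h0 => hne (by rw [h0, map_zero])
        linear_combination (smul_eq_zero.1 this).resolve_right hz'0 + (1 - d) * h2
      rw [sub_eq_zero.1 (mul_self_eq_zero.1 hd1), one_smul] at hzero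
      exact hne' hzero
    obtain ⟨P, h1, h3, h4, h5, h6⟩ := double_piece hph hhW hn (sa_mid hph) (sumInv_eq_mid h)
      (mid_comm h) hMW hMk hMQ he hf hf0 (by
        have := hph.symm.left z' f
        rw [LinearEquiv.symm_symm] at this
        rwa [← this])
    refine ⟨P, h1, h3, h4, fun x hx => by rw [hgx]; exact P.smul_mem _ (h5 x hx), Or.inl ?_⟩
    have h7 := isLU_smul hgx (h6 ε)
    rwa [hε] at h7
  push Not at hB
  have H : OddSetting S h W n := ⟨hph, hhW, hW, hn, fun x hx => by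
    obtain ⟨y, hy, rfl⟩ : ∃ y ∈ W, (h.symm.toLinearMap ^ (n - 1)) y = x := by
      refine ⟨(h.toLinearMap ^ (n - 1)) x, pow_mem' hhW _ x hx, ?_⟩
      have hc : h.symm.toLinearMap * h.toLinearMap = 1 :=
        LinearMap.ext fun y => h.symm_apply_apply y
      have hcomm : Commute h.symm.toLinearMap h.toLinearMap := LinearMap.ext fun y => by simp
      rw [← Module.End.mul_apply, ← hcomm.mul_pow, hc, one_pow, Module.End.one_apply]
    rw [pow_succ', Module.End.mul_apply, ← mid_pow_eq, nil_apply, hB y hy, sub_self]⟩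
  obtain ⟨f, hf, hA0⟩ : ∃ f ∈ W, S.om ((nil h ^ (2 * (n - 1))) x₀) f ≠ 0 := by
    rw [← H.top_eq hx₀]
    by_contra hall
    push Not at hall
    exact hMne (hW _ (pow_mem' hMW _ _ hx₀) hall)
  by_cases hε1 : ε = 1
  · refine ⟨_, H.pair_le hx₀ hf, H.pair_ne_bot hx₀ hf hA0, H.pair_nd hx₀ hf hA0,
      fun x hx => by rw [hgx]; exact Submodule.smul_mem _ _ (H.pair_inv hx₀ hf x hx), Or.inl ?_⟩
    have := isLU_smul hgx (H.lu_piece hx₀ hf hA0)
    rwa [hε1, mul_one] at this
  · have hm1 : ε = -1 := (mul_self_eq_one_iff.1 hε).resolve_left hε1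
    have h2 : (2 : F) ≠ 0 := fun h2 => hε1 (by rw [hm1]; linear_combination -h2)
    obtain ⟨P, h1, h3, h4⟩ := twist_piece h2 (fun x => by rw [hgx, hm1]) H hx₀ hf hA0
    exact ⟨P, h1, h3, h4.nd, h4.inv, Or.inr h4⟩

theorem good_of_inv [Fintype F] (hg : S.Pres g) (W : Submodule F V) (hW : S.ND W)
    (hgW : Inv' g W) : Good S g W := by
  induction h : Module.finrank F W using Nat.strong_induction_on generalizing W with
  | _ d ih =>
    by_cases hne : W = ⊥
    · exact .lu (hne ▸ isLU_bot g 1)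
    obtain ⟨P, hPW, hP0, hP, hgP, hpiece⟩ := exists_piece hg hW hgW hne
    obtain ⟨h1, h2, h3, h4, h5⟩ := split_off g hg hW hgW hP hgP hPW
    have hG := ih _ (h ▸ h5 hP0) _ h1 h2 rfl
    rw [h3]
    rcases hpiece with hp | hp
    · exact hG.add_lu hp hP hgP h4
    · rw [sup_comm]
      exact .tw hG hp h1 h2 h4.symm

end H31.SPC
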