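import Cfsg.Agent.H31.SpComm.Pair
import Cfsg.Agent.H31.SpComm.Bridge

/-!
`-h` on a pair of odd Jordan blocks of the unipotent `h` is a commutator in odd characteristic.
-/

set_option autoImplicit false
set_option linter.style.haveILetI false
set_option linter.unusedSectionVars false

open Polynomial

namespace H31.SPC

universe u v

variable {F : Type u} [Field F] {V : Type v} [AddCommGroup V] [Module F V] [FiniteDimensional F V]
variable {S : Frm F V}

theorem bil_span {ι : Type*} (w : ι → V) (Φ : Module.End F V)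
    (h : ∀ i j, S.om (Φ (w i)) (Φ (w j)) = S.om (w i) (w j)) :
    ∀ x ∈ Submodule.span F (Set.range w), ∀ y ∈ Submodule.span F (Set.range w),
      S.om (Φ x) (Φ y) = S.om x y := by
  intro x hx y hy
  induction hx using Submodule.span_induction with
  | mem x hx =>
    obtain ⟨i, rfl⟩ := hx
    induction hy using Submodule.span_induction with
    | mem y hy => obtain ⟨j, rfl⟩ := hy; exact h i j
    | zero => simp
    | add a b _ _ ha hb => simp [ha, hb]
    | smul c a _ ha => simp [ha]
  | zero => simp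
  | add a b _ _ ha hb => simp [ha, hb]
  | smul c a _ ha => simp [ha]

theorem isCompl_perp {P : Submodule F V} (hP : S.ND P) : IsCompl P (S.perp P) := by
  refine ⟨disjoint_of_orth hP fun x hx y hy => by rw [S.swap y x, hy x hx, neg_zero], ?_⟩
  rw [codisjoint_iff, eq_top_iff]
  intro x _
  obtain ⟨p, hp, h⟩ := S.realise hP (S.om x)
  rw [show x = p + (x - p) by abel]
  exact Submodule.add_mem_sup hp fun a ha => by rw [map_sub, LinearMap.sub_apply, h a ha, sub_self]

/-- `(h⁻¹ - 1)^i` and `(h - 1)^j` commute. -/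
theorem nil_symm_comm (h : V ≃ₗ[F] V) (i j : ℕ) (x : V) :
    (nil h ^ i) ((nil h.symm ^ j) x) = (nil h.symm ^ j) ((nil h ^ i) x) := by
  have : Commute (nil h) (nil h.symm) := by
    refine LinearMap.ext fun y => ?_
    simp only [Module.End.mul_apply, nil_apply, map_sub, LinearEquiv.apply_symm_apply,
      LinearEquiv.symm_apply_apply]
    abel
  exact LinearMap.congr_fun (this.pow_pow i j).eq x

theorem om_symm_pow {h : V ≃ₗ[F] V} (hh : S.Pres h) (i j : ℕ) (x y : V) :
    S.om ((nil h.symm ^ i) x) ((nil h.symm ^ j) y) =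
      S.om ((nil h ^ j) x) ((nil h ^ i) y) := by
  rw [nil_adj hh.symm, LinearEquiv.symm_symm, nil_symm_comm, ← nil_adj hh]

namespace OddSetting

variable {h : V ≃ₗ[F] V} {W : Submodule F V} {n : ℕ} (H : OddSetting S h W n)

include H

theorem aeval_mem' {x : V} (hx : x ∈ W) (q : F[X]) : aeval (nil h) q x ∈ W :=
  aeval_mem (fun y hy => H.nil_mem hy) q x hx

theorem symm_eq_aeval {x : V} (hx : x ∈ W) :
    h.symm x = aeval (nil h) (∑ l ∈ Finset.range (2 * (n - 1) + 1), (-X : F[X]) ^ l) x := by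
  rw [LinearEquiv.symm_apply_eq]
  have h1 := congrArg (fun q => aeval (nil h) q x)
    (mul_neg_geom_sum (-X : F[X]) (2 * (n - 1) + 1))
  simp only [map_mul, map_sub, map_one, map_neg, map_pow, aeval_X, Module.End.mul_apply,
    LinearMap.sub_apply, Module.End.one_apply, LinearMap.neg_apply] at h1
  rw [neg_pow, Module.End.mul_apply, H.kill x hx, map_zero, sub_zero, nil_apply, sub_neg_eq_add,
    add_sub_cancel] at h1
  simp only [map_sum, map_pow, map_neg, aeval_X] at h1 ⊢
  exact h1.symm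

theorem symm_nil_eq {x : V} (hx : x ∈ W) (j : ℕ) :
    (nil h.symm ^ j) x = aeval (nil h) (X ^ j *
      (-∑ l ∈ Finset.range (2 * (n - 1) + 1), (-X : F[X]) ^ l) ^ j) x := by
  set R : F[X] := ∑ l ∈ Finset.range (2 * (n - 1) + 1), (-X : F[X]) ^ l with hR
  induction j generalizing x with
  | zero => simp
  | succ j ih =>
    have h1 : nil h.symm x = aeval (nil h) (X * -R) x := by
      rw [map_mul, Module.End.mul_apply, map_neg, LinearMap.neg_apply, ← H.symm_eq_aeval hx,
        aeval_X, map_neg, nil_apply, nil_apply, LinearEquiv.apply_symm_apply, neg_sub]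
    rw [pow_succ, Module.End.mul_apply, h1, ih (H.aeval_mem' hx _), ← Module.End.mul_apply,
      ← map_mul]
    ring_nf

theorem low {x y : V} {m : ℕ} (hz : ∀ k, m < k → S.om ((nil h ^ k) x) y = 0) (Q : F[X]) :
    S.om (aeval (nil h) (X ^ m * Q) x) y = Q.coeff 0 * S.om ((nil h ^ m) x) y := by
  induction Q using Polynomial.induction_on' with
  | add p q hp hq => simp only [mul_add, map_add, LinearMap.add_apply, hp, hq, coeff_add, add_mul]
  | monomial i c =>
    simp only [map_mul, map_pow, aeval_X, aeval_monomial, Algebra.algebraMap_eq_smul_one,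
      smul_mul_assoc, one_mul, mul_smul_comm, LinearMap.smul_apply, map_smul,
      ← pow_add, smul_eq_mul, coeff_monomial]
    rcases Nat.eq_zero_or_pos i with rfl | hi
    · simp
    · rw [hz _ (by omega), if_neg (by omega), mul_zero, zero_mul]

theorem om_right {x y : V} (hx : x ∈ W) (j k : ℕ)
    (hz : ∀ l, j + k < l → S.om ((nil h ^ l) x) y = 0) :
    S.om ((nil h ^ k) x) ((nil h ^ j) y) = (-1) ^ j * S.om ((nil h ^ (j + k)) x) y := by
  have h1 := nil_adj (S := S) H.pres.symm j ((nil h ^ k) x) y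
  rw [LinearEquiv.symm_symm] at h1
  have hc : ((-∑ l ∈ Finset.range (2 * (n - 1) + 1), (-X : F[X]) ^ l) ^ j).coeff 0 =
      (-1) ^ j := by
    rw [coeff_zero_eq_eval_zero, eval_pow, eval_neg, eval_finsetSum, Finset.sum_range_succ']
    simp
  rw [← h1, ← nil_symm_comm, H.symm_nil_eq hx, ← aeval_X (R := F) (nil h), ← map_pow, aeval_X,
    ← Module.End.mul_apply, ← map_mul, show X ^ k * (X ^ j * _) =
      X ^ (j + k) * (-∑ l ∈ Finset.range (2 * (n - 1) + 1), (-X : F[X]) ^ l) ^ j by ring,
    H.low hz, hc]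

theorem kill_om {x : V} (hx : x ∈ W) (y : V) {k : ℕ} (hk : 2 * (n - 1) < k) :
    S.om ((nil h ^ k) x) y = 0 := by
  rw [H.kill_ge hx hk, map_zero, LinearMap.zero_apply]

theorem isotropise (h2 : (2 : F) ≠ 0) {e f : V} (he : e ∈ W) (hf : f ∈ W)
    (hA : S.om ((nil h ^ (2 * (n - 1))) e) f ≠ 0) :
    ∃ q : F[X], (∀ k, S.om ((nil h ^ k) (e + aeval (nil h) q f)) (e + aeval (nil h) q f) = 0) ∧
      S.om ((nil h ^ (2 * (n - 1))) (e + aeval (nil h) q f)) f =
        S.om ((nil h ^ (2 * (n - 1))) e) f := by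
  set T := 2 * (n - 1) with hT
  suffices ∀ d, ∃ q : F[X], (∀ k, T ≤ k + d →
      S.om ((nil h ^ k) (e + aeval (nil h) q f)) (e + aeval (nil h) q f) = 0) ∧
      S.om ((nil h ^ T) (e + aeval (nil h) q f)) f = S.om ((nil h ^ T) e) f by
    obtain ⟨q, h1, h3⟩ := this T
    exact ⟨q, fun k => h1 k (by omega), h3⟩
  intro d
  induction d with
  | zero =>
    refine ⟨0, fun k hk => ?_, by simp⟩
    simp only [map_zero, LinearMap.zero_apply, add_zero]
    rcases Nat.lt_or_ge T k with hlt | hge
    · exact H.kill_om he _ hlt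
    · rw [show k = T by omega, hT]; exact H.self_top he
  | succ d ih =>
    obtain ⟨q, hz, hA'⟩ := ih
    by_cases hd : T ≤ d
    · exact ⟨q, fun k _ => hz k (by omega), hA'⟩
    set e' := e + aeval (nil h) q f with he'
    have he'W : e' ∈ W := add_mem he (H.aeval_mem' hf q)
    set m := T - (d + 1) with hm
    have hzm : ∀ l, m < l → S.om ((nil h ^ l) e') e' = 0 := fun l hl => hz l (by omega)
    rcases Nat.even_or_odd m with hev | hodd
    · refine ⟨q, fun k hk => ?_, hA'⟩
      rcases Nat.lt_or_ge m k with hlt | hge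
      · exact hzm k hlt
      obtain rfl : k = m := by omega
      have h1 := H.om_right he'W m 0 (y := e') (by simpa using hzm)
      rw [pow_zero, Module.End.one_apply, Nat.add_zero, hev.neg_one_pow, one_mul,
        S.swap ((nil h ^ m) e') e'] at h1
      exact (mul_eq_zero.1 (by linear_combination -h1 :
        (2 : F) * S.om ((nil h ^ m) e') e' = 0)).resolve_left h2
    set j := T - m with hj
    have hjodd : Odd j := Nat.Even.sub_odd (by omega) (by rw [hT]; exact even_two_mul _) hodd
    have hj1 : 1 ≤ j := by omega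
    set A := S.om ((nil h ^ T) e') f with hAdef
    have hA0 : A ≠ 0 := by rw [hA']; exact hA
    set c := S.om ((nil h ^ m) e') e' / (2 * A) with hc
    refine ⟨q + Polynomial.C c * X ^ j, fun k hk => ?_, ?_⟩
    all_goals
      have hnew : e + aeval (nil h) (q + Polynomial.C c * X ^ j) f =
          e' + c • (nil h ^ j) f := by
        rw [he', map_add, LinearMap.add_apply, map_mul, Module.End.mul_apply, aeval_C, map_pow,
          aeval_X, Algebra.algebraMap_eq_smul_one, LinearMap.smul_apply, Module.End.one_apply]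
        abel
      rw [hnew]
    · have q1 : S.om ((nil h ^ k) e') ((nil h ^ j) f) =
          (-1) ^ j * S.om ((nil h ^ (j + k)) e') f :=
        H.om_right he'W j k fun l hl => H.kill_om he'W f (by omega)
      have q2 : S.om ((nil h ^ k) ((nil h ^ j) f)) ((nil h ^ j) f) = 0 := by
        rw [← Module.End.mul_apply, ← pow_add]
        rcases Nat.lt_or_ge T (k + j) with hlt | hge
        · exact H.kill_om hf _ hlt
        · rw [show k + j = T by omega, show j = j - 1 + 1 by omega, pow_succ' (nil h),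
            Module.End.mul_apply, hT]
          exact H.top_nil hf
      have q3 : S.om ((nil h ^ k) ((nil h ^ j) f)) e' = S.om ((nil h ^ (j + k)) f) e' := by
        rw [← Module.End.mul_apply, ← pow_add, add_comm]
      simp only [map_add, map_smul, LinearMap.add_apply, LinearMap.smul_apply, smul_eq_mul, q1, q2,
        q3, mul_zero, add_zero]
      rcases Nat.lt_or_ge m k with hlt | hge
      · rw [hzm k hlt, H.kill_om he'W f (by omega), H.kill_om hf e' (by omega)]
        ring
      obtain rfl : k = m := by omega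
      rw [show j + m = T by omega, hT, H.top_swap he'W hf, hjodd.neg_one_pow, ← hT, ← hAdef, hc]
      field_simp
      ring
    · simp only [map_add, map_smul, LinearMap.add_apply, LinearMap.smul_apply]
      rw [← Module.End.mul_apply, ← pow_add, H.kill_om hf f (by omega), smul_zero, add_zero]
      exact hA'

variable {e f : V} (he : e ∈ W) (hf : f ∈ W)
  (hA : S.om ((nil h ^ (2 * (n - 1))) e) f ≠ 0)

include he hf hA

theorem exists_chainMap (D : Module.End F V) {u w : V}
    (hu : ∀ i, 2 * (n - 1) + 1 ≤ i → (D ^ i) u = 0)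
    (hw : ∀ i, 2 * (n - 1) + 1 ≤ i → (D ^ i) w = 0) :
    ∃ Φ : Module.End F V, (∀ i, Φ ((nil h ^ i) e) = (D ^ i) u) ∧
      (∀ i, Φ ((nil h ^ i) f) = (D ^ i) w) ∧
      (∀ x ∈ S.perp (pairSpan h (2 * (n - 1)) e f), Φ x = x) ∧
      ∀ x ∈ pairSpan h (2 * (n - 1)) e f, Φ (nil h x) = D (Φ x) := by
  classical
  let b := Module.Basis.span (H.pair_linearIndependent he hf hA)
  let φ : pairSpan h (2 * (n - 1)) e f →ₗ[F] V :=
    b.constr F (Sum.elim (fun j => (D ^ (j : ℕ)) u) fun j => (D ^ (j : ℕ)) w)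
  have hc := isCompl_perp (H.pair_nd he hf hA)
  set Φ := LinearMap.ofIsCompl hc φ (S.perp (pairSpan h (2 * (n - 1)) e f)).subtype with hΦ
  have hb : ∀ k, (b k : V) = Sum.elim (fun j : Fin (2 * (n - 1) + 1) => (nil h ^ (j : ℕ)) e)
      (fun j : Fin (2 * (n - 1) + 1) => (nil h ^ (j : ℕ)) f) k :=
    fun k => congrArg Subtype.val (Module.Basis.span_apply _ k)
  have h1 : ∀ i, Φ ((nil h ^ i) e) = (D ^ i) u := by
    intro i
    by_cases hi : i < 2 * (n - 1) + 1
    · rw [show (nil h ^ i) e = (b (Sum.inl ⟨i, hi⟩) : V) by rw [hb]; rfl]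
      exact (LinearMap.ofIsCompl_apply_left hc _).trans (Module.Basis.constr_basis b F _ _)
    · rw [H.kill_ge he (by omega), map_zero, hu i (by omega)]
  have h2 : ∀ i, Φ ((nil h ^ i) f) = (D ^ i) w := by
    intro i
    by_cases hi : i < 2 * (n - 1) + 1
    · rw [show (nil h ^ i) f = (b (Sum.inr ⟨i, hi⟩) : V) by rw [hb]; rfl]
      exact (LinearMap.ofIsCompl_apply_left hc _).trans (Module.Basis.constr_basis b F _ _)
    · rw [H.kill_ge hf (by omega), map_zero, hw i (by omega)]
  refine ⟨Φ, h1, h2, fun x hx => LinearMap.ofIsCompl_right_apply hc ⟨x, hx⟩, fun x hx => ?_⟩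
  induction hx using Submodule.span_induction with
  | mem x hx =>
    obtain ⟨i | i, rfl⟩ := hx
    · show Φ (nil h ((nil h ^ (i : ℕ)) e)) = D (Φ ((nil h ^ (i : ℕ)) e))
      rw [show nil h ((nil h ^ (i : ℕ)) e) = (nil h ^ ((i : ℕ) + 1)) e by rw [pow_succ']; rfl, h1, h1, pow_succ', Module.End.mul_apply]
    · show Φ (nil h ((nil h ^ (i : ℕ)) f)) = D (Φ ((nil h ^ (i : ℕ)) f))
      rw [show nil h ((nil h ^ (i : ℕ)) f) = (nil h ^ ((i : ℕ) + 1)) f by rw [pow_succ']; rfl, h2, h2, pow_succ', Module.End.mul_apply]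
  | zero => simp
  | add a b _ _ ha hb => simp [ha, hb]
  | smul c a _ ha => simp [ha]

theorem exists_iso_map (D : Module.End F V) {u w : V}
    (huP : u ∈ pairSpan h (2 * (n - 1)) e f) (hwP : w ∈ pairSpan h (2 * (n - 1)) e f)
    (hDP : ∀ x ∈ pairSpan h (2 * (n - 1)) e f, D x ∈ pairSpan h (2 * (n - 1)) e f)
    (hD : ∀ x ∈ pairSpan h (2 * (n - 1)) e f, ∀ i, 2 * (n - 1) + 1 ≤ i → (D ^ i) x = 0)
    (huu : ∀ i j, S.om ((D ^ i) u) ((D ^ j) u) = S.om ((nil h ^ i) e) ((nil h ^ j) e))
    (huw : ∀ i j, S.om ((D ^ i) u) ((D ^ j) w) = S.om ((nil h ^ i) e) ((nil h ^ j) f))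
    (hww : ∀ i j, S.om ((D ^ i) w) ((D ^ j) w) = S.om ((nil h ^ i) f) ((nil h ^ j) f)) :
    ∃ a : V ≃ₗ[F] V, S.Pres a ∧ a e = u ∧ a f = w ∧
      (∀ x ∈ S.perp (pairSpan h (2 * (n - 1)) e f), a x = x) ∧
      (∀ x ∈ pairSpan h (2 * (n - 1)) e f, a x ∈ pairSpan h (2 * (n - 1)) e f) ∧
      ∀ x ∈ pairSpan h (2 * (n - 1)) e f, a (nil h x) = D (a x) := by
  obtain ⟨Φ, h1, h2, h3, h4⟩ := H.exists_chainMap he hf hA D (hD u huP) (hD w hwP)
  set P := pairSpan h (2 * (n - 1)) e f with hP
  have hiso : ∀ x ∈ P, ∀ y ∈ P, S.om (Φ x) (Φ y) = S.om x y := by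
    refine bil_span _ Φ fun i j => ?_
    rcases i with i | i <;> rcases j with j | j <;>
      simp only [Sum.elim_inl, Sum.elim_inr, h1, h2, huu, huw, hww]
    rw [S.swap, huw, ← S.swap]
  have hmem : ∀ x ∈ P, Φ x ∈ P := by
    intro x hx
    induction hx using Submodule.span_induction with
    | mem x hx =>
      obtain ⟨i | i, rfl⟩ := hx
      · rw [Sum.elim_inl, h1]; exact pow_mem' hDP _ _ huP
      · rw [Sum.elim_inr, h2]; exact pow_mem' hDP _ _ hwP
    | zero => simp
    | add a b _ _ ha hb => rw [map_add]; exact add_mem ha hb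
    | smul c a _ ha => rw [map_smul]; exact Submodule.smul_mem _ c ha
  have hc := isCompl_perp (H.pair_nd he hf hA)
  have hall : ∀ x y, S.om (Φ x) (Φ y) = S.om x y := by
    intro x y
    obtain ⟨p, hp, r, hr, rfl⟩ := Submodule.mem_sup.1
      (show x ∈ P ⊔ S.perp P by rw [hc.sup_eq_top]; trivial)
    obtain ⟨p', hp', r', hr', rfl⟩ := Submodule.mem_sup.1
      (show y ∈ P ⊔ S.perp P by rw [hc.sup_eq_top]; trivial)
    simp only [map_add, LinearMap.add_apply, h3 r hr, h3 r' hr', hiso p hp p' hp']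
    rw [hr (Φ p') (hmem p' hp'), hr p' hp', S.swap r' (Φ p), hr' (Φ p) (hmem p hp), S.swap r' p,
      hr' p hp]
  have hinj : Function.Injective Φ := (injective_iff_map_eq_zero Φ).2 fun x hx =>
    S.sep x fun y => by rw [← hall, hx, map_zero, LinearMap.zero_apply]
  exact ⟨LinearEquiv.ofInjectiveEndo Φ hinj, hall, by simpa using h1 0, by simpa using h2 0, h3,
    hmem, h4⟩

theorem exists_sym_pair (h2 : (2 : F) ≠ 0)
    (hee : ∀ i j, S.om ((nil h ^ i) e) ((nil h ^ j) e) = 0) :
    ∃ f₁ ∈ W, S.om ((nil h ^ (2 * (n - 1))) e) f₁ ≠ 0 ∧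
      ∀ i j, S.om ((nil h ^ i) e) ((nil h ^ j) f₁) = S.om ((nil h ^ j) e) ((nil h ^ i) f₁) := by
  have hD : ∀ x ∈ W, ∀ i, 2 * (n - 1) + 1 ≤ i → (nil h.symm ^ i) x = 0 := fun x hx i hi => by
    rw [H.symm_nil_eq hx, mul_comm, map_mul, Module.End.mul_apply, aeval_X_pow,
      H.kill_ge hx hi, map_zero]
  obtain ⟨Φ, hΦe, -, -, hΦN⟩ := H.exists_chainMap he hf hA (nil h.symm) (hD e he) (hD f hf)
  set P := pairSpan h (2 * (n - 1)) e f with hP
  have hinv := H.pair_inv he hf
  have hΦM : ∀ x ∈ P, Φ (nil h.symm x) = nil h (Φ x) := by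
    intro x hx
    have hy := hinv.symm_mem hx
    have h1 := hΦN _ hy
    rw [nil_apply, LinearEquiv.apply_symm_apply, nil_apply, map_sub, sub_left_inj] at h1
    rw [nil_apply, nil_apply, map_sub, h1, LinearEquiv.apply_symm_apply]
  have hΦMN : ∀ i j, Φ ((nil h.symm ^ j) ((nil h ^ i) e)) =
      (nil h ^ j) ((nil h.symm ^ i) e) := by
    intro i j
    induction j with
    | zero => simpa using hΦe i
    | succ j ih =>
      rw [pow_succ', Module.End.mul_apply, hΦM, ih, pow_succ', Module.End.mul_apply]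
      exact pow_mem' (fun x hx => by rw [nil_apply]; exact sub_mem (hinv.symm_mem hx) hx) j _
        (H.pair_nil he hf (H.pair_mem_left he hf) i)
  obtain ⟨w, hw, hwx⟩ := S.realise H.nd (S.om.flip f + (S.om.flip f).comp Φ)
  have hψ : ∀ x ∈ W, S.om x (-w) = S.om x f + S.om (Φ x) f := fun x hx => by
    rw [map_neg, ← S.swap, hwx x hx]; rfl
  refine ⟨-w, neg_mem hw, ?_, fun i j => ?_⟩
  · rw [hψ _ (pow_mem' (fun x hx => H.nil_mem hx) _ _ he), hΦe]
    have h1 := nil_adj (S := S) H.pres.symm (2 * (n - 1)) e f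
    rw [LinearEquiv.symm_symm] at h1
    have h3 := H.om_right he (y := f) (2 * (n - 1)) 0 fun l hl => H.kill_om he f (by omega)
    rw [pow_zero, Module.End.one_apply, Nat.add_zero, (even_two_mul _).neg_one_pow, one_mul] at h3
    rw [h1, h3, ← two_mul]
    exact mul_ne_zero h2 hA
  · have hMW : ∀ x ∈ W, nil h.symm x ∈ W := fun x hx => by
      rw [nil_apply]; exact sub_mem (H.inv.symm_mem hx) hx
    have hmem : ∀ a b, (nil h.symm ^ b) ((nil h ^ a) e) ∈ W := fun a b =>
      pow_mem' hMW _ _ (pow_mem' (fun x hx => H.nil_mem hx) _ _ he)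
    have key : ∀ a b, S.om ((nil h ^ a) e) ((nil h ^ b) (-w)) =
        S.om ((nil h.symm ^ b) ((nil h ^ a) e)) f +
          S.om ((nil h.symm ^ a) ((nil h ^ b) e)) f := fun a b => by
      have h1 := nil_adj (S := S) H.pres.symm b ((nil h ^ a) e) (-w)
      rw [LinearEquiv.symm_symm] at h1
      rw [← h1, hψ _ (hmem a b), hΦMN, nil_symm_comm]
    rw [key, key, add_comm]

end OddSetting

/-- A piece `-(odd Jordan pair)`. -/
structure Twist (S : Frm F V) (g : V ≃ₗ[F] V) (P : Submodule F V) : Prop where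
  nd : S.ND P
  inv : Inv' g P
  comm : Comm S g P
  lu : IsLU S g (-1) P
  dim : ∃ t, Module.finrank F P = 2 * (2 * t + 1)
  small : Module.finrank F P = 2 → ∀ x ∈ P, g x = -x

theorem pow_char_eq {p : ℕ} [Fact p.Prime] [CharP F p] (h : V ≃ₗ[F] V) (s : ℕ) :
    h.toLinearMap ^ p ^ s = nil h ^ p ^ s + 1 := by
  have h1 := congrArg (aeval (nil h)) (add_pow_char_pow (R := F[X]) (p := p) (n := s) X 1)
  simp only [map_add, map_pow, aeval_X, map_one, one_pow] at h1
  rw [← h1, nil, sub_add_cancel]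

theorem twist_piece [Fintype F] (h2 : (2 : F) ≠ 0) {g h : V ≃ₗ[F] V}
    (hgh : ∀ x, g x = (-1 : F) • h x) {W : Submodule F V} {n : ℕ} (H : OddSetting S h W n)
    {e f : V} (he : e ∈ W) (hf : f ∈ W) (hA : S.om ((nil h ^ (2 * (n - 1))) e) f ≠ 0) :
    ∃ P, P ≤ W ∧ P ≠ ⊥ ∧ Twist S g P := by
  classical
  -- normalisation
  obtain ⟨q₁, hq₁, hA₁⟩ := H.isotropise h2 he hf hA
  set e' := e + aeval (nil h) q₁ f with he'
  have he'W : e' ∈ W := add_mem he (H.aeval_mem' hf q₁)
  have isoAll : ∀ x ∈ W, (∀ k, S.om ((nil h ^ k) x) x = 0) → ∀ i j,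
      S.om ((nil h ^ i) x) ((nil h ^ j) x) = 0 := fun x hx hz i j => by
    rw [H.om_right hx j i fun l _ => hz l, hz, mul_zero]
  have hee := isoAll e' he'W hq₁
  obtain ⟨f₁, hf₁, hA₂, hsym₁⟩ := H.exists_sym_pair he'W hf (hA₁ ▸ hA) h2 hee
  obtain ⟨q₂, hq₂, hA₃⟩ := H.isotropise h2 hf₁ he'W (by
    rw [H.top_swap he'W hf₁]; exact neg_ne_zero.2 hA₂)
  set f' := f₁ + aeval (nil h) q₂ e' with hf'
  have hf'W : f' ∈ W := add_mem hf₁ (H.aeval_mem' he'W q₂)
  have hff := isoAll f' hf'W hq₂
  have hzero : ∀ (q : F[X]) i j, S.om ((nil h ^ i) e') ((nil h ^ j) (aeval (nil h) q e')) = 0 := by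
    intro q i j
    induction q using Polynomial.induction_on' with
    | add p q hp hq => simp [map_add, hp, hq]
    | monomial k c =>
      rw [aeval_monomial, Algebra.algebraMap_eq_smul_one, smul_mul_assoc, one_mul,
        LinearMap.smul_apply, map_smul, map_smul, ← Module.End.mul_apply, ← pow_add, hee,
        smul_zero]
  have hef : ∀ i j, S.om ((nil h ^ i) e') ((nil h ^ j) f') =
      S.om ((nil h ^ j) e') ((nil h ^ i) f') := fun i j => by
    simp only [hf', map_add, hzero, add_zero]; exact hsym₁ i j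
  have hA' : S.om ((nil h ^ (2 * (n - 1))) e') f' ≠ 0 := by
    have := hzero q₂ (2 * (n - 1)) 0
    rw [pow_zero, Module.End.one_apply] at this
    rw [hf', map_add, this, add_zero]; exact hA₂
  clear_value e' f'
  set P := pairSpan h (2 * (n - 1)) e' f' with hP
  have hPW : P ≤ W := H.pair_le he'W hf'W
  have hinv := H.pair_inv he'W hf'W
  have hdim := H.pair_finrank he'W hf'W hA'
  have hginv : Inv' g P := fun x hx => by rw [hgh]; exact P.smul_mem _ (hinv x hx)
  have hlu : IsLU S g (-1) P := by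
    have := isLU_smul (a := 1) hgh (H.lu_piece he'W hf'W hA')
    rwa [mul_one] at this
  refine ⟨P, hPW, H.pair_ne_bot he'W hf'W hA', H.pair_nd he'W hf'W hA', hginv, ?_, hlu,
    ⟨n - 1, hdim⟩, fun h2' x hx => ?_⟩
  swap
  · rw [hP, hdim] at h2'
    have h0 := H.kill x (hPW hx)
    rw [show 2 * (n - 1) = 0 by omega, zero_add, pow_one, nil_apply, sub_eq_zero] at h0
    rw [hgh, h0, neg_one_smul]
  -- a square root of `h`
  obtain ⟨p, hp⟩ := CharP.exists F
  haveI : Fact p.Prime := ⟨CharP.char_is_prime F p⟩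
  have hp2 : p ≠ 2 := fun hp2 => h2 (by
    have := CharP.cast_eq_zero F p
    rwa [hp2, Nat.cast_ofNat] at this)
  obtain ⟨s, hs⟩ : ∃ s, 2 * (n - 1) + 1 ≤ p ^ s :=
    ⟨2 * (n - 1) + 1, (Nat.lt_pow_self (Fact.out : p.Prime).one_lt).le⟩
  obtain ⟨k, hk⟩ : ∃ k, p ^ s + 1 = 2 * k := by
    obtain ⟨t, ht⟩ := ((Fact.out : p.Prime).odd_of_ne_two hp2).pow (n := s)
    exact ⟨t + 1, by omega⟩
  set r := h.toLinearMap ^ k with hr
  set r' := h.symm.toLinearMap ^ k with hr'
  have hrr : ∀ x ∈ W, r (r x) = h x := fun x hx => by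
    rw [hr, ← Module.End.mul_apply, ← pow_add, ← two_mul, ← hk, pow_succ', Module.End.mul_apply,
      pow_char_eq, LinearMap.add_apply, H.kill_ge hx hs, zero_add, Module.End.one_apply]
    rfl
  have hrinv : ∀ x, r (r' x) = x := fun x => by
    have hc : h.toLinearMap * h.symm.toLinearMap = 1 := LinearMap.ext fun y => h.apply_symm_apply y
    have hcomm : Commute h.toLinearMap h.symm.toLinearMap :=
      LinearMap.ext fun y => by simp
    rw [hr, hr', ← Module.End.mul_apply, ← hcomm.mul_pow, hc, one_pow, Module.End.one_apply]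
  have hrP : ∀ x ∈ P, r x ∈ P := pow_mem' hinv k
  have hrW : ∀ x ∈ W, r' x ∈ W := pow_mem' (fun x hx => H.inv.symm_mem hx) k
  have hrom : ∀ x y, S.om (r x) (r y) = S.om x y := by
    have : ∀ (k : ℕ) x y, S.om ((h.toLinearMap ^ k) x) ((h.toLinearMap ^ k) y) = S.om x y := by
      intro k
      induction k with
      | zero => simp
      | succ k ih =>
        intro x y
        rw [pow_succ', Module.End.mul_apply, Module.End.mul_apply]
        exact (H.pres _ _).trans (ih x y)
    exact this k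
  have hrN : ∀ i x, (nil h ^ i) (r x) = r ((nil h ^ i) x) := fun i x => by
    have hc : Commute (nil h) h.toLinearMap := LinearMap.ext fun y => by simp [nil_apply]
    exact LinearMap.congr_fun (hc.pow_pow i k).eq x
  have heP := H.pair_mem_left he'W hf'W
  have hfP := H.pair_mem_right he'W hf'W
  obtain ⟨a, pa, hae, haf, hafix, hamem, haN⟩ := H.exists_iso_map he'W hf'W hA' (nil h)
    (u := -r f') (w := r e') (neg_mem (hrP _ hfP)) (hrP _ heP)
    (fun x hx => by simpa using H.pair_nil he'W hf'W hx 1) (fun x hx i hi => H.kill_ge (hPW hx) hi)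
    (fun i j => by simp [map_neg, hrN, hrom, hff, hee])
    (fun i j => by
      rw [map_neg, hrN, hrN, map_neg, LinearMap.neg_apply, hrom, S.swap ((nil h ^ j) e'), neg_neg,
        hef j i])
    (fun i j => by rw [hrN, hrN, hrom, hee, hff])
  obtain ⟨α, β, hαβ⟩ : ∃ α β : F, α ^ 2 + β ^ 2 = -1 := by
    obtain ⟨α, β, hab⟩ := FiniteField.exists_root_sum_quadratic (f := (X : F[X]) ^ 2)
      (g := (X : F[X]) ^ 2 + 1) (degree_X_pow 2) (by rw [← map_one Polynomial.C, degree_X_pow_add_C (by norm_num)]; rfl)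
      (FiniteField.odd_card_of_char_ne_two (by rw [ringChar.eq F p]; exact hp2))
    simp only [eval_pow, eval_X, eval_add, eval_one] at hab
    exact ⟨α, β, by linear_combination hab⟩
  have hd : ∀ i j, S.om ((nil h.symm ^ i) e') ((nil h.symm ^ j) f') =
      S.om ((nil h ^ i) e') ((nil h ^ j) f') := fun i j => by
    rw [om_symm_pow H.pres, hef]
  have hd' : ∀ i j, S.om ((nil h.symm ^ i) f') ((nil h.symm ^ j) e') =
      -S.om ((nil h ^ i) e') ((nil h ^ j) f') := fun i j => by
    rw [S.swap, hd, hef]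
  have hde : ∀ i j, S.om ((nil h.symm ^ i) e') ((nil h.symm ^ j) e') = 0 := fun i j => by
    rw [om_symm_pow H.pres, hee]
  have hdf : ∀ i j, S.om ((nil h.symm ^ i) f') ((nil h.symm ^ j) f') = 0 := fun i j => by
    rw [om_symm_pow H.pres, hff]
  obtain ⟨b, pb, hbe, hbf, hbfix, hbmem, hbN⟩ := H.exists_iso_map he'W hf'W hA' (nil h.symm)
    (u := α • e' + β • f') (w := β • e' - α • f') (add_mem (P.smul_mem _ heP) (P.smul_mem _ hfP))
    (sub_mem (P.smul_mem _ heP) (P.smul_mem _ hfP))
    (fun x hx => by rw [nil_apply]; exact sub_mem (hinv.symm_mem hx) hx)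
    (fun x hx i hi => by
      rw [H.symm_nil_eq (hPW hx), mul_comm, map_mul, Module.End.mul_apply, aeval_X_pow,
        H.kill_ge (hPW hx) hi, map_zero])
    (fun i j => by
      simp only [map_add, map_smul, LinearMap.add_apply, LinearMap.smul_apply, smul_eq_mul, hd, hd',
        hde, hdf, hee]
      ring)
    (fun i j => by
      simp only [map_add, map_sub, map_smul, LinearMap.add_apply, LinearMap.smul_apply, smul_eq_mul,
        hd, hd', hde, hdf]
      linear_combination (-S.om ((nil h ^ i) e') ((nil h ^ j) f')) * hαβ)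
    (fun i j => by
      simp only [map_sub, map_smul, LinearMap.sub_apply, LinearMap.smul_apply, smul_eq_mul, hd, hd',
        hde, hdf, hff]
      ring)
  -- intertwining
  have hah : ∀ x ∈ P, a (h x) = h (a x) := fun x hx => by
    have := haN x hx
    simpa [nil_apply] using this
  have hbh : ∀ x ∈ P, b (h x) = h.symm (b x) := fun x hx => by
    have := hbN x hx
    simpa [nil_apply] using this
  have hahs : ∀ x ∈ P, a (h.symm x) = h.symm (a x) := fun x hx => by
    rw [LinearEquiv.eq_symm_apply, ← hah _ (hinv.symm_mem hx), LinearEquiv.apply_symm_apply]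
  have hbr : ∀ x ∈ P, b (r x) = r' (b x) := by
    intro x hx
    rw [hr, hr']
    clear_value r r'
    clear hr hr' hrr hrinv hrP hrW hrom hrN hk
    induction k with
    | zero => simp
    | succ k ih =>
      rw [pow_succ', pow_succ', Module.End.mul_apply, Module.End.mul_apply]
      show b (h ((h.toLinearMap ^ k) x)) = h.symm ((h.symm.toLinearMap ^ k) (b x))
      rw [hbh _ (pow_mem' hinv k x hx), ih]
  have hkey : ∀ y ∈ P, h (r' y) = r y := fun y hy => by
    rw [← hrr _ (hrW y (hPW hy)), hrinv]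
  have main : ∀ x ∈ P, a (b x) = g (b (a x)) := by
    intro x hx
    induction hx using Submodule.span_induction with
    | mem x hx =>
      suffices ∀ i v, v = e' ∨ v = f' →
          a (b ((nil h ^ i) v)) = g (b (a ((nil h ^ i) v))) by
        obtain ⟨i | i, rfl⟩ := hx
        · exact this i e' (Or.inl rfl)
        · exact this i f' (Or.inr rfl)
      intro i v hv
      induction i with
      | zero =>
        simp only [pow_zero, Module.End.one_apply]
        rcases hv with rfl | rfl
        · rw [hbe, hae, map_add, map_smul, map_smul, hae, haf, hgh, map_neg, hbr _ hfP, map_neg,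
            hkey _ (hbmem _ hfP), hbf, neg_one_smul, neg_neg, map_sub, map_smul, map_smul]
          module
        · rw [hbf, haf, map_sub, map_smul, map_smul, hae, haf, hgh, hbr _ heP,
            hkey _ (hbmem _ heP), hbe, map_add, map_smul, map_smul]
          module
      | succ i ih =>
        have hvP : v ∈ P := by rcases hv with rfl | rfl <;> assumption
        have hm := H.pair_nil he'W hf'W hvP i
        rw [pow_succ', Module.End.mul_apply, hbN _ hm, haN _ hm, nil_apply h.symm, map_sub,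
          hahs _ (hbmem _ hm), ih, hbN _ (hamem _ hm), nil_apply h.symm, map_sub, hgh,
          hgh (h.symm _), map_smul, LinearEquiv.apply_symm_apply, LinearEquiv.symm_apply_apply]
    | zero => simp
    | add x y _ _ hx hy => simp [hx, hy]
    | smul c x _ hx => simp [hx]
  refine ⟨a, b, pa, pb, fun x hx => ⟨hafix x hx, hbfix x hx⟩, fun x hx => ?_⟩
  have hy : a.symm (b.symm x) ∈ P :=
    (show Inv' a P from hamem).symm_mem ((show Inv' b P from hbmem).symm_mem hx)
  rw [main _ hy, LinearEquiv.apply_symm_apply, LinearEquiv.apply_symm_apply]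

end H31.SPC
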